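import Mathlib
import Cfsg.Prelude.Def_Transfer
import Cfsg.Agent.H49.WrSub
import Cfsg.Agent.H49.ZModTwo

/-!
# The dihedral 2-group as a model of a Sylow 2-subgroup
-/

namespace Cfsg.Agent.H49

open Subgroup ZTwo DihedralGroup

/-- The dihedral group of order `2 ^ (N + 2)`. -/
abbrev Dih (N : ℕ) := DihedralGroup (2 ^ (N + 1))

namespace Dih

variable {N : ℕ}

/-- The central rotation of order two. -/
def dz (N : ℕ) : Dih N := r (half N)

theorem two_zero : (2 : ZMod 2) = 0 := by decide

theorem add_self_two (x : ZMod 2) : x + x = 0 := by revert x; decide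

theorem dz_ne_one : dz N ≠ 1 := by
  rw [dz, one_def]
  exact fun h => half_ne_zero (DihedralGroup.r.inj h)

theorem dz_mul_dz : dz N * dz N = 1 := by
  rw [dz, r_mul_r, half_add_half, r_zero]

theorem orderOf_dz : orderOf (dz N) = 2 :=
  orderOf_eq_prime (by rw [sq, dz_mul_dz]) dz_ne_one

theorem dz_mem_center : dz N ∈ Subgroup.center (Dih N) := by
  rw [Subgroup.mem_center_iff]
  rintro (i | i)
  · rw [dz, r_mul_r, r_mul_r, add_comm i]
  · rw [dz, sr_mul_r, r_mul_sr, sub_eq_add_neg, neg_half]

theorem dz_ne_sr (a : ZMod (2 ^ (N + 1))) : dz N ≠ sr a := by simp [dz]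

theorem dz_mul_sr (a : ZMod (2 ^ (N + 1))) : dz N * sr a = sr (a + half N) := by
  rw [dz, r_mul_sr, sub_eq_add_neg, neg_half]

theorem eq_of_orderOf_two {u : Dih N} (h : orderOf u = 2) : u = dz N ∨ ∃ j, u = sr j := by
  rcases u with i | i
  · left
    have h1 := pow_orderOf_eq_one (r i : Dih N)
    rw [h, sq] at h1
    rw [r_mul_r, one_def, DihedralGroup.r.injEq, ← two_mul, two_mul_eq_zero_iff] at h1
    rcases h1 with rfl | rfl
    · rw [r_zero, orderOf_one] at h; omega
    · rfl
  · exact Or.inr ⟨i, rfl⟩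

theorem conj_r_sr (c a : ZMod (2 ^ (N + 1))) : r c * sr a * (r c)⁻¹ = sr (a - 2 * c) := by
  rw [r_mul_sr, inv_r, sr_mul_r]
  congr 1; ring

theorem isConj_sr {a b : ZMod (2 ^ (N + 1))} (h : par N a = par N b) : IsConj (sr a : Dih N) (sr b) := by
  obtain ⟨c, hc⟩ := par_eq_zero_iff.1 (show par N (a - b) = 0 by rw [map_sub, h, sub_self])
  exact isConj_iff.2 ⟨r c, by rw [conj_r_sr, ← hc, sub_sub_cancel]⟩

/-- The parity of the exponent is constant on the classes, as is the type. -/
theorem par_of_isConj_sr {a b : ZMod (2 ^ (N + 1))} (h : IsConj (sr a : Dih N) (sr b)) :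
    par N a = par N b := by
  obtain ⟨c, hc⟩ := isConj_iff.1 h
  rcases c with c | c
  · rw [conj_r_sr, DihedralGroup.sr.injEq] at hc
    rw [← hc, map_sub, map_mul, map_ofNat, two_zero, zero_mul, sub_zero]
  · rw [inv_sr, sr_mul_sr, r_mul_sr, DihedralGroup.sr.injEq] at hc
    rw [← hc, map_sub, map_sub]
    generalize par N a = x
    generalize par N c = y
    revert x y
    decide

theorem not_isConj_dz_sr (a : ZMod (2 ^ (N + 1))) : ¬ IsConj (dz N) (sr a : Dih N) := fun h => by
  obtain ⟨c, hc⟩ := isConj_iff.1 h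
  rw [Subgroup.mem_center_iff.1 dz_mem_center c, mul_inv_cancel_right] at hc
  exact dz_ne_sr a hc

theorem eq_dz_of_isConj {u : Dih N} (h : IsConj (dz N) u) : u = dz N := by
  obtain ⟨c, hc⟩ := isConj_iff.1 h
  rw [Subgroup.mem_center_iff.1 dz_mem_center c, mul_inv_cancel_right] at hc
  exact hc.symm

/-- The four groups. -/
def four (a : ZMod (2 ^ (N + 1))) : Subgroup (Dih N) := Subgroup.centralizer {sr a}

theorem mem_four {a : ZMod (2 ^ (N + 1))} {u : Dih N} :
    u ∈ four a ↔ u = 1 ∨ u = dz N ∨ u = sr a ∨ u = sr (a + half N) := by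
  rw [four, Subgroup.mem_centralizer_singleton_iff]
  rcases u with i | i
  · rw [r_mul_sr, sr_mul_r, DihedralGroup.sr.injEq, one_def, dz]
    constructor
    · intro h
      rcases two_mul_eq_zero_iff.1 (show 2 * i = 0 by linear_combination -h) with rfl | rfl <;> simp
    · rintro (h | h | h | h)
      · rw [DihedralGroup.r.inj h, sub_zero, add_zero]
      · rw [DihedralGroup.r.inj h, sub_eq_add_neg, neg_half]
      · simp at h
      · simp at h
  · rw [sr_mul_sr, sr_mul_sr, DihedralGroup.r.injEq, one_def, dz]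
    constructor
    · intro h
      rcases two_mul_eq_two_mul_iff.1 (show 2 * i = 2 * a by linear_combination -h) with rfl | rfl <;>
        simp
    · rintro (h | h | h | h)
      · cases h
      · cases h
      · rw [DihedralGroup.sr.inj h]
      · rw [DihedralGroup.sr.inj h]
        linear_combination -(two_mul_half (N := N))

theorem sr_mem_four (a : ZMod (2 ^ (N + 1))) : sr a ∈ four a := mem_four.2 (by simp)

theorem dz_mem_four (a : ZMod (2 ^ (N + 1))) : dz N ∈ four a := mem_four.2 (by simp)

theorem isKleinFour_four (a : ZMod (2 ^ (N + 1))) : IsKleinFour (four a) := by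
  refine isKleinFour_of_mem_four _ (fun u => mem_four) dz_mul_dz (sr_mul_self a) (sr_mul_self _)
    dz_ne_one ?_ ?_ (dz_ne_sr a) (dz_ne_sr _) ?_
  · exact fun h => by cases h
  · exact fun h => by cases h
  · exact fun h => half_ne_zero (left_eq_add.1 (DihedralGroup.sr.inj h))

theorem exists_eq_four (T : Subgroup (Dih N)) (hT : IsKleinFour T) : ∃ a, T = four a := by
  have hc : ∀ c ∈ T, c * c = 1 := fun c hc => congrArg Subtype.val (hT.mul_self ⟨c, hc⟩)
  obtain ⟨a, haT⟩ : ∃ a, sr a ∈ T := by
    by_contra hcon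
    push Not at hcon
    have hle : T ≤ Subgroup.zpowers (dz N) := fun c hcT => by
      by_cases h1 : c = 1
      · rw [h1]; exact one_mem _
      rcases eq_of_orderOf_two (orderOf_eq_prime (by rw [sq, hc c hcT]) h1) with rfl | ⟨j, rfl⟩
      · exact Subgroup.mem_zpowers _
      · exact absurd hcT (hcon j)
    have := Subgroup.card_dvd_of_le hle
    rw [Nat.card_zpowers, orderOf_dz, hT.card_four] at this
    norm_num at this
  refine ⟨a, ?_⟩
  have hle : T ≤ four a := fun c hcT => by
    rw [four, Subgroup.mem_centralizer_singleton_iff]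
    have h := hc _ (mul_mem hcT haT)
    calc c * sr a = (c * sr a)⁻¹ := (inv_eq_of_mul_eq_one_right h).symm
      _ = sr a * c := by
          rw [mul_inv_rev, inv_eq_of_mul_eq_one_right (hc c hcT),
            inv_eq_of_mul_eq_one_right (hc _ haT)]
  exact Subgroup.eq_of_le_of_card_ge hle (by rw [hT.card_four, (isKleinFour_four a).card_four])

end Dih

end Cfsg.Agent.H49
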