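import Mathlib
import Cfsg.Prelude.Def_Transfer
import Cfsg.Agent.S0514
import Cfsg.Agent.H19.Cores
import Cfsg.Agent.H49.DihModel
import Cfsg.Agent.H49.QDFusion
import Cfsg.Agent.H49.QGroup

/-!
# Fusion in groups with dihedral Sylow 2-subgroups
-/

namespace Cfsg.Agent.H49

open Subgroup ZTwo DihedralGroup

variable {G : Type*} [Group G] [Finite G]

/-- With an odd normal subgroup of 2-power index, every element splits along a Sylow 2-subgroup and
fusion in the Sylow 2-subgroup is inner. -/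
theorem split_of_complement {W : Type*} [Group W] {f : W →* G} (hf : Function.Injective f)
    (hS : IsSylTwo f.range) {O : Subgroup G} [O.Normal] (hO : Odd (Nat.card O)) {k : ℕ}
    (hk : O.index = 2 ^ k) :
    (∀ g, ∃ s, g * (f s)⁻¹ ∈ O) ∧ (∀ w, f w ∈ O → w = 1) := by
  haveI : Fact (Nat.Prime 2) := ⟨Nat.prime_two⟩
  have htriv : ∀ w, f w ∈ O → w = 1 := fun w hw => by
    have h1 : f w ∈ f.range ⊓ O := ⟨⟨w, rfl⟩, hw⟩
    rw [H19.inf_eq_bot_of_isPGroup_coprime hS.1 (Nat.coprime_comm.1
      ((Nat.Prime.coprime_iff_not_dvd Nat.prime_two).2 (Nat.two_dvd_ne_zero.2 (Nat.odd_iff.1 hO)))),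
      Subgroup.mem_bot] at h1
    exact hf (h1.trans (map_one f).symm)
  refine ⟨fun g => ?_, htriv⟩
  have hidx : (f.range.map (QuotientGroup.mk' O)).index = 1 := by
    have h1 := f.range.index_map_dvd (QuotientGroup.mk'_surjective O)
    have h2 : (f.range.map (QuotientGroup.mk' O)).index ∣ 2 ^ k :=
      hk ▸ (Subgroup.index_dvd_card (f.range.map (QuotientGroup.mk' O)))
    obtain ⟨i, -, hi⟩ := (Nat.dvd_prime_pow Nat.prime_two).1 h2
    rw [hi] at h1 ⊢
    cases i with
    | zero => rfl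
    | succ i => exact absurd (dvd_trans (dvd_pow_self 2 (Nat.succ_ne_zero i)) h1) hS.2
  obtain ⟨_, ⟨s, rfl⟩, hs⟩ : QuotientGroup.mk' O g ∈ f.range.map (QuotientGroup.mk' O) := by
    rw [Subgroup.index_eq_one.1 hidx]; exact mem_top _
  refine ⟨s, (QuotientGroup.eq_one_iff _).1 ?_⟩
  show QuotientGroup.mk' O (g * (f s)⁻¹) = 1
  rw [map_mul, map_inv, hs, mul_inv_cancel]

/-- Fusion in a Sylow 2-subgroup of a group with a normal 2-complement. -/
theorem isConj_of_complement {W : Type*} [Group W] {f : W →* G} (hf : Function.Injective f)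
    (hS : IsSylTwo f.range) {O : Subgroup G} [O.Normal] (hO : Odd (Nat.card O)) {k : ℕ}
    (hk : O.index = 2 ^ k) {u v : W} (h : IsConj (f u) (f v)) : IsConj u v := by
  obtain ⟨g, hg⟩ := isConj_iff.1 h
  obtain ⟨hsplit, htriv⟩ := split_of_complement hf hS hO hk
  obtain ⟨s, hs⟩ := hsplit g
  refine isConj_iff.2 ⟨s, mul_inv_eq_one.1 (htriv _ ?_)⟩
  rw [← QuotientGroup.eq_one_iff] at hs
  rw [QuotientGroup.mk_mul, QuotientGroup.mk_inv, mul_inv_eq_one] at hs
  rw [← QuotientGroup.eq_one_iff, map_mul, map_inv, ← hg, map_mul, map_mul, map_inv]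
  simp only [QuotientGroup.mk_mul, QuotientGroup.mk_inv, hs, mul_inv_cancel]

namespace Dih

variable {N : ℕ} {f : Dih N →* G}

/-- Fusion in the centralizer of the central involution is inner. -/
theorem isConj_of_centralizer (hf : Function.Injective f) (hS : IsSylTwo f.range) {g : G}
    (hg : g * f (dz N) * g⁻¹ = f (dz N)) {u v : Dih N} (h : g * f u * g⁻¹ = f v) : IsConj u v := by
  let C := Subgroup.centralizer ({f (dz N)} : Set G)
  have ht : orderOf (f (dz N)) = 2 := by rw [orderOf_injective f hf, orderOf_dz]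
  obtain ⟨O, hO, hodd, k, hk⟩ := S0514.result (hS.1.toSylow hS.2) (2 ^ (N + 1))
    (Nat.le_self_pow (Nat.succ_ne_zero N) 2) ⟨(MonoidHom.ofInjective hf).symm⟩ _ ht
  haveI := hO
  let fC := f.codRestrict C (mem_centralizer_range f dz_mem_center)
  refine isConj_of_complement (f := fC) (fun a b e => hf (congrArg Subtype.val e))
    (isSylTwo_codRestrict hS C _) hodd hk (isConj_iff.2 ⟨⟨g, ?_⟩, Subtype.ext h⟩)
  rw [Subgroup.mem_centralizer_singleton_iff]
  exact mul_inv_eq_iff_eq_mul.1 hg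

/-- The four groups, in the ambient group. -/
def T (f : Dih N →* G) (a : ZMod (2 ^ (N + 1))) : Subgroup G := (four a).map f

omit [Finite G] in
theorem mem_T {a : ZMod (2 ^ (N + 1))} {x : G} (hx : x ∈ T f a) :
    x = 1 ∨ x = f (dz N) ∨ x = f (sr a) ∨ x = f (sr (a + half N)) := by
  obtain ⟨w, hw, rfl⟩ := hx
  rcases mem_four.1 hw with rfl | rfl | rfl | rfl <;> simp

/-- The three involutions of a four group. -/
def inv3 (f : Dih N →* G) (a : ZMod (2 ^ (N + 1))) : Fin 3 → G :=
  ![f (dz N), f (sr a), f (sr (a + half N))]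

omit [Finite G] in
theorem inv3_mem (a : ZMod (2 ^ (N + 1))) (i : Fin 3) : inv3 f a i ∈ T f a := by
  fin_cases i
  · exact ⟨_, dz_mem_four a, rfl⟩
  · exact ⟨_, sr_mem_four a, rfl⟩
  · exact ⟨_, mem_four.2 (by simp), rfl⟩

omit [Finite G] in
theorem inv3_sq (a : ZMod (2 ^ (N + 1))) (i : Fin 3) : inv3 f a i * inv3 f a i = 1 := by
  fin_cases i
  · show f (dz N) * f (dz N) = 1
    rw [← map_mul, dz_mul_dz, map_one]
  · show f (sr a) * f (sr a) = 1
    rw [← map_mul, sr_mul_self, map_one]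
  · show f (sr _) * f (sr _) = 1
    rw [← map_mul, sr_mul_self, map_one]

omit [Finite G] in
theorem inv3_ne_one (hf : Function.Injective f) (a : ZMod (2 ^ (N + 1))) (i : Fin 3) :
    inv3 f a i ≠ 1 := by
  fin_cases i <;> show f _ ≠ 1 <;> rw [← map_one f, hf.ne_iff]
  · exact dz_ne_one
  · exact fun h => by cases h
  · exact fun h => by cases h

omit [Finite G] in
theorem inv3_injective (hf : Function.Injective f) (a : ZMod (2 ^ (N + 1))) :
    Function.Injective (inv3 f a) := by
  have h4 : (sr a : Dih N) ≠ sr (a + half N) := fun h =>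
    half_ne_zero (left_eq_add.1 (DihedralGroup.sr.inj h))
  intro i j h
  fin_cases i <;> fin_cases j <;>
    simp [inv3, hf.eq_iff, dz_ne_sr, (dz_ne_sr _).symm, h4, h4.symm, half_ne_zero] at h ⊢

omit [Finite G] in
theorem mem_T_inv3 {a : ZMod (2 ^ (N + 1))} {x : G} (hx : x ∈ T f a) (h1 : x ≠ 1) :
    ∃ i, x = inv3 f a i := by
  rcases mem_T hx with h | h | h | h
  · exact absurd h h1
  · exact ⟨0, h⟩
  · exact ⟨1, h⟩
  · exact ⟨2, h⟩

omit [Finite G] in
theorem inv3_perm (hf : Function.Injective f) {a : ZMod (2 ^ (N + 1))} {n : G}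
    (hn : n ∈ Subgroup.normalizer (T f a : Set G)) (i : Fin 3) :
    ∃ j, n * inv3 f a i * n⁻¹ = inv3 f a j :=
  mem_T_inv3 ((Subgroup.mem_normalizer_iff.1 hn _).1 (inv3_mem a i))
    (fun h => inv3_ne_one hf a i (conj_eq_one_iff.1 h))

omit [Finite G] in
theorem mem_centralizer_T {a : ZMod (2 ^ (N + 1))} {n : G}
    (h : ∀ i, n * inv3 f a i * n⁻¹ = inv3 f a i) : n ∈ Subgroup.centralizer (T f a : Set G) := by
  rw [Subgroup.mem_centralizer_iff]
  intro x hx
  rcases mem_T hx with rfl | rfl | rfl | rfl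
  · rw [one_mul, mul_one]
  · exact (mul_inv_eq_iff_eq_mul.1 (h 0)).symm
  · exact (mul_inv_eq_iff_eq_mul.1 (h 1)).symm
  · exact (mul_inv_eq_iff_eq_mul.1 (h 2)).symm

theorem conj_four {w : Dih N} {a b : ZMod (2 ^ (N + 1))} (h : w * sr a * w⁻¹ = sr b) :
    (four a).map (MulAut.conj w).toMonoidHom = four b := by
  ext u
  simp only [four, Subgroup.mem_map_equiv, Subgroup.mem_centralizer_singleton_iff,
    MulAut.conj_symm_apply, ← h]
  constructor
  · intro e
    calc u * (w * sr a * w⁻¹) = w * (w⁻¹ * u * w * sr a) * w⁻¹ := by group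
      _ = w * (sr a * (w⁻¹ * u * w)) * w⁻¹ := by rw [e]
      _ = w * sr a * w⁻¹ * u := by group
  · intro e
    calc w⁻¹ * u * w * sr a = w⁻¹ * (u * (w * sr a * w⁻¹)) * w := by group
      _ = w⁻¹ * (w * sr a * w⁻¹ * u) * w := by rw [e]
      _ = sr a * (w⁻¹ * u * w) := by group

omit [Finite G] in
theorem conj_T {w : Dih N} {a b : ZMod (2 ^ (N + 1))} (h : w * sr a * w⁻¹ = sr b) :
    (T f a).map (MulAut.conj (f w)).toMonoidHom = T f b := by
  rw [T, map_conj_apply_map, conj_four h, T]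

omit [Finite G] in
theorem four_add_half (a : ZMod (2 ^ (N + 1))) : four (a + half N) = four a := by
  ext u
  rw [mem_four, mem_four, add_assoc, half_add_half, add_zero]
  tauto

theorem swap_conj (hN : 1 ≤ N) (a : ZMod (2 ^ (N + 1))) :
    r (quart N) * sr a * (r (quart N))⁻¹ = (sr (a + half N) : Dih N) := by
  rw [conj_r_sr, two_mul, quart_add_quart hN, sub_eq_add_neg, neg_half]

theorem swap_dz : r (quart N) * dz N * (r (quart N))⁻¹ = (dz N : Dih N) := by
  rw [Subgroup.mem_center_iff.1 dz_mem_center, mul_inv_cancel_right]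

omit [Finite G] in
theorem swap_mem_normalizer (hN : 1 ≤ N) (a : ZMod (2 ^ (N + 1))) :
    f (r (quart N)) ∈ Subgroup.normalizer (T f a : Set G) := by
  rw [mem_normalizer_iff_map, conj_T (swap_conj hN a), T, four_add_half, T]

omit [Finite G] in
theorem isKleinFour_T (hf : Function.Injective f) (a : ZMod (2 ^ (N + 1))) : IsKleinFour (T f a) := by
  have e := (four a).equivMapOfInjective f hf
  exact ⟨(Nat.card_congr e.toEquiv).symm.trans (isKleinFour_four a).card_four,
    (Monoid.exponent_eq_of_mulEquiv e).symm.trans (isKleinFour_four a).exponent_two⟩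

theorem isPGroup_T (hf : Function.Injective f) (a : ZMod (2 ^ (N + 1))) : IsPGroup 2 (T f a) :=
  IsPGroup.of_card (n := 2) (isKleinFour_T hf a).card_four

/-- A four subgroup inside the model is one of the `T`. -/
theorem exists_eq_T (hf : Function.Injective f) {V : Subgroup G} (hV : IsKleinFour V)
    (hle : V ≤ f.range) : ∃ b, V = T f b := by
  have hVe : (V.comap f).map f = V := Subgroup.map_comap_eq_self hle
  have e := ((V.comap f).equivMapOfInjective f hf).trans (MulEquiv.subgroupCongr hVe)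
  obtain ⟨b, hb⟩ := exists_eq_four (V.comap f)
    ⟨(Nat.card_congr e.toEquiv).trans hV.card_four,
      (Monoid.exponent_eq_of_mulEquiv e).trans hV.exponent_two⟩
  exact ⟨b, by rw [T, ← hb, hVe]⟩

theorem isKleinFour_map {V : Subgroup G} (hV : IsKleinFour V) (g : G) :
    IsKleinFour (V.map (MulAut.conj g).toMonoidHom) := by
  have e := V.equivMapOfInjective (MulAut.conj g).toMonoidHom (MulAut.conj g).injective
  exact ⟨(Nat.card_congr e.toEquiv).symm.trans hV.card_four,
    (Monoid.exponent_eq_of_mulEquiv e).symm.trans hV.exponent_two⟩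

theorem map_conj_mul (V : Subgroup G) (g h : G) :
    (V.map (MulAut.conj h).toMonoidHom).map (MulAut.conj g).toMonoidHom =
      V.map (MulAut.conj (g * h)).toMonoidHom := by
  rw [Subgroup.map_map]
  congr 1
  ext x
  simp [mul_assoc]

/-- The three involutions under the normalizer, when the central one has a conjugate in sight. -/
theorem T_tri (hf : Function.Injective f) (hN : 1 ≤ N) (a : ZMod (2 ^ (N + 1))) :
    let C := Subgroup.centralizer (T f a : Set G)
    let Nr := Subgroup.normalizer (T f a : Set G)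
    (C.relIndex Nr = 2 ∨ C.relIndex Nr = 6) ∧
    (C.relIndex Nr = 6 ↔ ∃ n ∈ Nr, n * f (dz N) * n⁻¹ ≠ f (dz N)) ∧
    ((∃ n ∈ Nr, n * f (dz N) * n⁻¹ ≠ f (dz N)) → ∃ c ∈ Nr,
      c * f (dz N) * c⁻¹ = f (sr a) ∧ c * f (sr a) * c⁻¹ = f (sr (a + half N))) := by
  intro C Nr
  let O : Fin 3 → Subgroup G := fun i => zpowers (inv3 f a i)
  have hz : ∀ {n : G} {i j : Fin 3}, (O i).map (MulAut.conj n).toMonoidHom = O j →
      n * inv3 f a i * n⁻¹ = inv3 f a j := fun {n i j} h => by
    simp only [O, map_conj_zpowers] at h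
    exact zpowers_inj_of_sq (inv3_sq a j) (fun e => inv3_ne_one hf a i (conj_eq_one_iff.1 e)) h
  have hz' : ∀ {n : G} {i j : Fin 3}, n * inv3 f a i * n⁻¹ = inv3 f a j →
      (O i).map (MulAut.conj n).toMonoidHom = O j := fun {n i j} h => by
    simp only [O, map_conj_zpowers, h]
  obtain ⟨h26, hiff, hcyc⟩ := tri_index (N := Nr) (K := C) O
    (fun i j h => inv3_injective hf a (zpowers_inj_of_sq (inv3_sq a j) (inv3_ne_one hf a i) h))
    (fun n hn i => (inv3_perm hf hn i).imp fun j hj => hz' hj)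
    (fun n _ => ⟨fun h i => hz' (by
        rw [← Subgroup.mem_centralizer_iff.1 h _ (inv3_mem a i), mul_inv_cancel_right]),
      fun h => mem_centralizer_T fun i => hz (h i)⟩)
    ⟨f (r (quart N)), swap_mem_normalizer hN a, hz' (by
        show f (r (quart N)) * f (dz N) * (f (r (quart N)))⁻¹ = f (dz N)
        rw [← map_inv, ← map_mul, ← map_mul, swap_dz]), hz' (by
        show f (r (quart N)) * f (sr a) * (f (r (quart N)))⁻¹ = f (sr (a + half N))
        rw [← map_inv, ← map_mul, ← map_mul, swap_conj hN])⟩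
  have hiff' : C.relIndex Nr = 6 ↔ ∃ n ∈ Nr, n * f (dz N) * n⁻¹ ≠ f (dz N) :=
    hiff.trans ⟨fun ⟨n, hn, h⟩ => ⟨n, hn, fun e => h (hz' e)⟩,
      fun ⟨n, hn, h⟩ => ⟨n, hn, fun e => h (hz e)⟩⟩
  refine ⟨h26, hiff', fun h => ?_⟩
  obtain ⟨c, hc, -, h0, h1, -⟩ := hcyc (hiff'.2 h)
  exact ⟨c, hc, hz h0, hz h1⟩

/-- Four groups of different parity are not conjugate. -/
theorem not_conj_T (hf : Function.Injective f) (hS : IsSylTwo f.range) (hN : 1 ≤ N)
    {a b : ZMod (2 ^ (N + 1))} {g : G} (hg : (T f a).map (MulAut.conj g).toMonoidHom = T f b) :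
    par N a = par N b := by
  suffices H : ∃ g', g' * f (dz N) * g'⁻¹ = f (dz N) ∧
      (T f a).map (MulAut.conj g').toMonoidHom = T f b by
    obtain ⟨g', hz, hg'⟩ := H
    obtain ⟨v, hv, hvx⟩ :=
      (hg' ▸ ⟨_, inv3_mem a 1, rfl⟩ : MulAut.conj g' (inv3 f a 1) ∈ T f b)
    have hc := isConj_of_centralizer hf hS hz (u := sr a) (v := v) hvx.symm
    rcases mem_four.1 hv with rfl | rfl | rfl | rfl
    · exact absurd (isConj_one_left.1 hc) (fun h => by cases h)
    · exact absurd hc.symm (not_isConj_dz_sr a)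
    · exact par_of_isConj_sr hc
    · rw [par_of_isConj_sr hc, map_add, par_half hN, add_zero]
  by_cases hw : g * f (dz N) * g⁻¹ = f (dz N)
  · exact ⟨g, hw, hg⟩
  have hwmem : g * f (dz N) * g⁻¹ ∈ T f b := hg ▸ ⟨_, inv3_mem a 0, rfl⟩
  -- the swap of the target moves the image of the central involution
  have hmove : ∃ n ∈ Subgroup.normalizer (T f a : Set G), n * f (dz N) * n⁻¹ ≠ f (dz N) := by
    refine ⟨g⁻¹ * f (r (quart N)) * g, ?_, fun e => ?_⟩
    · rw [mem_normalizer_iff_map, ← map_conj_mul, ← map_conj_mul, hg,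
        (mem_normalizer_iff_map.1 (swap_mem_normalizer hN b)), ← hg, map_conj_mul, inv_mul_cancel]
      ext x
      simp
    · have e' : f (r (quart N)) * (g * f (dz N) * g⁻¹) * (f (r (quart N)))⁻¹ = g * f (dz N) * g⁻¹ := by
        calc _ = g * (g⁻¹ * f (r (quart N)) * g * f (dz N) * (g⁻¹ * f (r (quart N)) * g)⁻¹) * g⁻¹ := by
              group
          _ = _ := by rw [e]
      rcases mem_T hwmem with h | h | h | h
      · exact dz_ne_one (hf ((conj_eq_one_iff.1 h).trans (map_one f).symm))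
      · exact hw h
      all_goals
        rw [h, ← map_inv, ← map_mul, ← map_mul, swap_conj hN] at e'
        exact half_ne_zero (add_eq_left.1 (DihedralGroup.sr.inj (hf e')))
  obtain ⟨c, hc, h0, h1⟩ := (T_tri hf hN a).2.2 hmove
  have hcT := mem_normalizer_iff_map.1 hc
  have hu : g⁻¹ * f (dz N) * g ∈ T f a := by
    have h := (hg.symm ▸ inv3_mem b 0 : inv3 f b 0 ∈ (T f a).map (MulAut.conj g).toMonoidHom)
    rw [Subgroup.mem_map_equiv, MulAut.conj_symm_apply] at h
    exact h
  have hfin : ∀ d : G, d * f (dz N) * d⁻¹ = g⁻¹ * f (dz N) * g →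
      g * d * f (dz N) * (g * d)⁻¹ = f (dz N) := fun d hd => by
    calc g * d * f (dz N) * (g * d)⁻¹ = g * (d * f (dz N) * d⁻¹) * g⁻¹ := by group
      _ = f (dz N) := by rw [hd]; group
  rcases mem_T hu with h | h | h | h
  · exfalso
    have h' : g⁻¹ * f (dz N) * g⁻¹⁻¹ = 1 := by rw [inv_inv, h]
    exact dz_ne_one (hf ((conj_eq_one_iff.1 h').trans (map_one f).symm))
  · exfalso
    apply hw
    calc g * f (dz N) * g⁻¹ = g * (g⁻¹ * f (dz N) * g) * g⁻¹ := by rw [h]
      _ = f (dz N) := by group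
  · exact ⟨g * c, hfin c (h0.trans h.symm), by rw [← map_conj_mul, hcT, hg]⟩
  · refine ⟨g * (c * c), hfin _ ?_, by rw [← map_conj_mul, ← map_conj_mul, hcT, hcT, hg]⟩
    rw [h, ← h1, ← h0]
    group

/-- A conjugate of the central involution in a four group moves it in the normalizer. -/
theorem exists_move (hf : Function.Injective f) (hS : IsSylTwo f.range) {a : ZMod (2 ^ (N + 1))}
    (h : IsConj (f (dz N)) (f (sr a))) :
    ∃ n ∈ Subgroup.normalizer (T f a : Set G), n * f (dz N) * n⁻¹ ≠ f (dz N) := by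
  obtain ⟨g, hg⟩ := isConj_iff.1 h.symm
  let E := (T f a).map (MulAut.conj g).toMonoidHom
  have hE : E ≤ Subgroup.centralizer {f (dz N)} := by
    rintro _ ⟨x, hx, rfl⟩
    rw [Subgroup.mem_centralizer_singleton_iff, ← hg]
    obtain ⟨u, hu, rfl⟩ := hx
    show g * f u * g⁻¹ * (g * f (sr a) * g⁻¹) = g * f (sr a) * g⁻¹ * (g * f u * g⁻¹)
    have hu' : u * sr a = sr a * u := Subgroup.mem_centralizer_singleton_iff.1 hu
    calc _ = g * (f u * f (sr a)) * g⁻¹ := by group
      _ = g * (f (sr a) * f u) * g⁻¹ := by rw [← map_mul, hu', map_mul]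
      _ = _ := by group
  obtain ⟨c, hc, hle⟩ := exists_conjHom_ge hS
    (C := Subgroup.centralizer {f (dz N)})
    (by rintro _ ⟨w, rfl⟩; exact mem_centralizer_range f dz_mem_center w)
    ((isPGroup_T hf a).map _) hE
  have hcz : c⁻¹ * f (dz N) * c⁻¹⁻¹ = f (dz N) := by
    rw [inv_inv, mul_assoc, ← Subgroup.mem_centralizer_singleton_iff.1 hc, inv_mul_cancel_left]
  have hle' : E.map (MulAut.conj c⁻¹).toMonoidHom ≤ f.range := by
    refine (Subgroup.map_mono hle).trans ?_
    rw [range_conjHom, map_conj_mul, inv_mul_cancel]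
    rintro _ ⟨x, hx, rfl⟩
    simpa using hx
  obtain ⟨b, hb⟩ := exists_eq_T hf (isKleinFour_map (isKleinFour_map (isKleinFour_T hf a) g) c⁻¹) hle'
  rw [map_conj_mul] at hb
  have hx : c⁻¹ * g * f (sr a) * (c⁻¹ * g)⁻¹ = f (dz N) := by
    calc _ = c⁻¹ * (g * f (sr a) * g⁻¹) * c⁻¹⁻¹ := by group
      _ = f (dz N) := by rw [hg, hcz]
  obtain ⟨w, hw⟩ : ∃ w : Dih N, (T f b).map (MulAut.conj (f w)).toMonoidHom = T f a := by
    rcases Nat.eq_zero_or_pos N with hN | hN
    · subst hN
      refine ⟨1, ?_⟩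
      have htop : ∀ d : ZMod (2 ^ (0 + 1)), four d = (⊤ : Subgroup (Dih 0)) := fun d =>
        Subgroup.eq_top_of_card_eq _ (by
          rw [(isKleinFour_four d).card_four, DihedralGroup.nat_card]; rfl)
      rw [map_one, T, T, htop, htop]
      ext x
      simp
    · obtain ⟨w, hw⟩ := isConj_iff.1 (isConj_sr (not_conj_T hf hS hN hb).symm)
      exact ⟨w, conj_T hw⟩
  refine ⟨f w * (c⁻¹ * g), ?_, fun e => ?_⟩
  · rw [mem_normalizer_iff_map, ← map_conj_mul, hb, hw]
  · have h2 : f w * (c⁻¹ * g) * f (sr a) * (f w * (c⁻¹ * g))⁻¹ = f (dz N) := by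
      calc _ = f w * (c⁻¹ * g * f (sr a) * (c⁻¹ * g)⁻¹) * (f w)⁻¹ := by group
        _ = f (dz N) := by
          rw [hx, ← map_inv, ← map_mul, ← map_mul, Subgroup.mem_center_iff.1 dz_mem_center w,
            mul_inv_cancel_right]
    exact dz_ne_sr a (hf (mul_left_cancel (mul_right_cancel (h2.trans e.symm))).symm)

/-- In the smallest case the normalizer of the Sylow subgroup has no transpositions. -/
theorem fix_one_zero {f : Dih 0 →* G} (hf : Function.Injective f) (hS : IsSylTwo f.range)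
    {a : ZMod (2 ^ (0 + 1))} {n : G} (hn : n ∈ Subgroup.normalizer (T f a : Set G)) {i : Fin 3}
    (hi : n * inv3 f a i * n⁻¹ = inv3 f a i) : n ∈ Subgroup.centralizer (T f a : Set G) := by
  have htop : T f a = f.range := by
    rw [T, MonoidHom.range_eq_map, Subgroup.eq_top_of_card_eq (four a) (by
      rw [(isKleinFour_four a).card_four, DihedralGroup.nat_card]; rfl)]
  set C := Subgroup.centralizer (T f a : Set G) with hC
  -- the square fixes everything
  have hn2 : n ^ 2 ∈ C := by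
    refine mem_centralizer_T fun j => ?_
    obtain ⟨l, hl⟩ := inv3_perm hf hn j
    obtain ⟨m, hm⟩ := inv3_perm hf hn l
    have h2 : n ^ 2 * inv3 f a j * (n ^ 2)⁻¹ = inv3 f a m := by
      rw [← hm, ← hl, sq, mul_inv_rev]
      simp only [mul_assoc]
    rw [h2]
    congr 1
    have key : ∀ {p q r : Fin 3}, n * inv3 f a p * n⁻¹ = inv3 f a r →
        n * inv3 f a q * n⁻¹ = inv3 f a r → p = q := fun hp hq =>
      inv3_injective hf a (mul_left_cancel (mul_right_cancel (hp.trans hq.symm)))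
    by_cases hjl : j = l
    · subst hjl
      exact inv3_injective hf a (hm.symm.trans hl)
    · have hji : j ≠ i := fun e => hjl (inv3_injective hf a (hi.symm.trans (e ▸ hl)) |> fun x => e ▸ x)
      have hli : l ≠ i := fun e => hji (key (e ▸ hl) hi)
      have hml : m ≠ l := fun e => hjl (key hl (e ▸ hm))
      have hmi : m ≠ i := fun e => hli (key (e ▸ hm) hi)
      revert hjl hji hli hml hmi
      revert i j l m
      intros
      omega
  obtain ⟨e, m, hm, ho⟩ : ∃ e m, Odd m ∧ orderOf n = 2 ^ e * m := by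
    obtain ⟨e, m, hm, ho⟩ := Nat.exists_eq_pow_mul_and_not_dvd (orderOf_pos n).ne' 2 (by norm_num)
    exact ⟨e, m, Nat.not_even_iff_odd.1 fun h => hm h.two_dvd, ho⟩
  -- the 2-part of `n` lies in the four group
  have hp : IsPGroup 2 (zpowers (n ^ m)) := by
    refine IsPGroup.of_card (n := e) ?_
    rw [Nat.card_zpowers, orderOf_pow, ho, Nat.gcd_mul_left_left, Nat.mul_div_cancel _ hm.pos]
  obtain ⟨c, hc, hle⟩ := exists_conjHom_ge hS (C := Subgroup.normalizer (T f a : Set G))
    (htop ▸ Subgroup.le_normalizer) hp (Subgroup.zpowers_le.2 (pow_mem hn m))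
  have hmC : n ^ m ∈ C := by
    have h1 := hle (mem_zpowers _)
    rw [range_conjHom, ← htop, mem_normalizer_iff_map.1 hc] at h1
    rw [hC, Subgroup.mem_centralizer_iff]
    rintro _ ⟨u, -, rfl⟩
    obtain ⟨v, -, hv⟩ := h1
    rw [← hv, ← map_mul, ← map_mul]
    congr 1
    exact (show ∀ u v : Dih 0, u * v = v * u by decide) _ _
  obtain ⟨j, rfl⟩ := hm
  rw [pow_succ, pow_mul] at hmC
  exact (Subgroup.mul_mem_cancel_left C (pow_mem hn2 j)).1 hmC

/-- If the central involution moves, all three involutions are conjugate and the index is maximal. -/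
theorem conj_all_of_move (hf : Function.Injective f) (hS : IsSylTwo f.range)
    {a b : ZMod (2 ^ (N + 1))} {n : G} (hn : n ∈ Subgroup.normalizer (T f a : Set G))
    (hne : n * f (dz N) * n⁻¹ ≠ f (dz N)) (hab : par N a = par N b ∨ N = 0) :
    IsConj (f (dz N)) (f (sr b)) := by
  rcases Nat.eq_zero_or_pos N with hN | hN
  · subst hN
    have h0 : ∀ i : Fin 3, IsConj (f (dz 0)) (inv3 f a i) := by
      obtain ⟨l, hl⟩ := inv3_perm hf hn (a := a) 0
      have hl0 : l ≠ 0 := fun e => hne (by subst e; exact hl)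
      obtain ⟨m, hm⟩ := inv3_perm hf hn (a := a) l
      have hml : m ≠ l := fun e => hne (by
        have := Subgroup.mem_centralizer_iff.1 (fix_one_zero hf hS hn (e ▸ hm)) _ (inv3_mem a 0)
        show n * inv3 f a 0 * n⁻¹ = inv3 f a 0
        rw [← this, mul_inv_cancel_right])
      have hm0 : m ≠ 0 := fun e => by
        -- then the third involution is fixed
        obtain ⟨r, hr⟩ : ∃ r : Fin 3, r ≠ 0 ∧ r ≠ l := by
          clear hl hm hml e
          revert l; decide
        obtain ⟨q, hq⟩ := inv3_perm hf hn (a := a) r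
        have hinj : ∀ {p p' : Fin 3}, n * inv3 f a p * n⁻¹ = n * inv3 f a p' * n⁻¹ → p = p' := fun h =>
          inv3_injective hf a (mul_left_cancel (mul_right_cancel h))
        have hq1 : q ≠ l := fun h => hr.1 (hinj (by rw [hq, h, hl]))
        have hq2 : q ≠ 0 := fun h => hr.2 (hinj (by rw [hq, h, hm, e]))
        have hqr : q = r := by
          clear hl hm hq hinj hml e
          obtain ⟨hr1, hr2⟩ := hr
          omega
        exact hne (by
          have := Subgroup.mem_centralizer_iff.1 (fix_one_zero hf hS hn (hqr ▸ hq)) _ (inv3_mem a 0)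
          show n * inv3 f a 0 * n⁻¹ = inv3 f a 0
          rw [← this, mul_inv_cancel_right])
      have h1 : IsConj (inv3 f a 0) (inv3 f a l) := isConj_iff.2 ⟨n, hl⟩
      have h2 : IsConj (inv3 f a l) (inv3 f a m) := isConj_iff.2 ⟨n, hm⟩
      intro i
      have hcases : i = 0 ∨ i = l ∨ i = m := by
        clear hl hm h1 h2
        omega
      rcases hcases with rfl | rfl | rfl
      · exact IsConj.refl _
      · exact h1
      · exact h1.trans h2
    have : b = a ∨ b = a + half 0 := by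
      clear hab hn hne h0
      revert a b; decide
    rcases this with rfl | rfl
    · exact h0 1
    · exact h0 2
  · have hab' : par N a = par N b := hab.resolve_right (by omega)
    obtain ⟨c, -, h0, -⟩ := (T_tri hf hN a).2.2 ⟨n, hn, hne⟩
    exact (isConj_iff.2 ⟨c, h0⟩).trans (isConj_map f (isConj_sr hab'))

end Dih

end Cfsg.Agent.H49
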