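import Mathlib
import Cfsg.Prelude.Def_Transfer
import Cfsg.Agent.H49.DihFusion
import Cfsg.Agent.H49.QDCases

/-!
# Transfer in groups with dihedral Sylow 2-subgroups
-/

namespace Cfsg.Agent.H49

open Subgroup ZTwo DihedralGroup

variable {G : Type*} [Group G] [Finite G]

namespace Dih

variable {N : ℕ} {f : Dih N →* G}

theorem eq_or_par_of_isConj {a b : ZMod (2 ^ (N + 1))} (h : IsConj (f (dz N)) (f (sr a)))
    (hab : par N a = par N b) : IsConj (f (dz N)) (f (sr b)) :=
  h.trans (isConj_map f (isConj_sr hab))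

/-- In the smallest case one fusion forces all. -/
theorem all_of_one_zero {f : Dih 0 →* G} (hf : Function.Injective f) (hS : IsSylTwo f.range)
    {a : ZMod (2 ^ (0 + 1))} (h : IsConj (f (dz 0)) (f (sr a))) (b : ZMod (2 ^ (0 + 1))) :
    IsConj (f (dz 0)) (f (sr b)) := by
  obtain ⟨n, hn, hne⟩ := exists_move hf hS h
  exact conj_all_of_move hf hS hn hne (Or.inr rfl)

/-- Reflections not fused with the central involution are fused only within their parity. -/
theorem par_of_fused (hf : Function.Injective f) (hS : IsSylTwo f.range)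
    {a b : ZMod (2 ^ (N + 1))} (ha : ¬ IsConj (f (dz N)) (f (sr a)))
    (h : IsConj (f (sr a)) (f (sr b))) : par N a = par N b := by
  obtain ⟨g, hg⟩ := isConj_iff.1 h
  have hb : ¬ IsConj (f (dz N)) (f (sr b)) := fun e => ha (e.trans h.symm)
  let C := Subgroup.centralizer ({f (sr b)} : Set G)
  have hTC : T f b ≤ C := by
    rintro _ ⟨u, hu, rfl⟩
    rw [Subgroup.mem_centralizer_singleton_iff, ← map_mul, ← map_mul]
    exact congrArg f (Subgroup.mem_centralizer_singleton_iff.1 hu)
  let E := (T f a).map (MulAut.conj g).toMonoidHom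
  have hEC : E ≤ C := by
    rintro _ ⟨x, ⟨u, hu, rfl⟩, rfl⟩
    rw [Subgroup.mem_centralizer_singleton_iff, ← hg]
    show g * f u * g⁻¹ * (g * f (sr a) * g⁻¹) = g * f (sr a) * g⁻¹ * (g * f u * g⁻¹)
    have hu' : u * sr a = sr a * u := Subgroup.mem_centralizer_singleton_iff.1 hu
    calc _ = g * (f u * f (sr a)) * g⁻¹ := by group
      _ = g * (f (sr a) * f u) * g⁻¹ := by rw [← map_mul, hu', map_mul]
      _ = _ := by group
  -- a 2-subgroup of the centralizer containing `T f b` is `T f b`
  have hmax : ∀ P : Subgroup G, IsPGroup 2 P → T f b ≤ P → P ≤ C → P = T f b := by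
    intro P hP hle hPC
    obtain ⟨h, hh⟩ := hS.exists_conj_le hP
    have hbP : f (sr b) ∈ P := hle (inv3_mem b 1)
    obtain ⟨_, ⟨u, rfl⟩, hu⟩ := hh hbP
    have hu2 : orderOf u = 2 := by
      rw [← orderOf_injective f hf, ← orderOf_injective (MulAut.conj h).toMonoidHom
        (MulAut.conj h).injective, hu, orderOf_injective f hf, orderOf_sr]
    rcases eq_of_orderOf_two hu2 with rfl | ⟨d, rfl⟩
    · exact absurd (isConj_iff.2 ⟨h, hu⟩) hb
    · refine (Subgroup.eq_of_le_of_card_ge hle ?_).symm
      have hPd : P ≤ (T f d).map (MulAut.conj h).toMonoidHom := fun x hx => by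
        obtain ⟨_, ⟨v, rfl⟩, hv⟩ := hh hx
        refine ⟨f v, ⟨v, ?_, rfl⟩, hv⟩
        show v ∈ Subgroup.centralizer {sr d}
        rw [Subgroup.mem_centralizer_singleton_iff]
        refine hf ((MulAut.conj h).injective ?_)
        show (MulAut.conj h).toMonoidHom (f (v * sr d)) = (MulAut.conj h).toMonoidHom (f (sr d * v))
        rw [map_mul, map_mul, map_mul, map_mul, hv, hu]
        exact Subgroup.mem_centralizer_singleton_iff.1 (hPC hx)
      refine (Nat.card_mono (Set.toFinite _) hPd).trans ?_
      show Nat.card ((T f d).map (MulAut.conj h).toMonoidHom) ≤ _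
      rw [(isKleinFour_map (isKleinFour_T hf d) h).card_four, (isKleinFour_T hf b).card_four]
  obtain ⟨Q, hQ⟩ := ((isPGroup_T hf b).comap_of_injective C.subtype C.subtype_injective).exists_le_sylow
  have hQT : (Q : Subgroup C).map C.subtype = T f b := by
    refine hmax _ (Q.isPGroup'.map _) ?_ (Subgroup.map_subtype_le _)
    intro x hx
    exact ⟨⟨x, hTC hx⟩, hQ hx, rfl⟩
  obtain ⟨c, hc⟩ := (isSylTwo_sylow Q).exists_conj_le (E := E.subgroupOf C)
    (((isPGroup_T hf a).map _).comap_of_injective C.subtype C.subtype_injective)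
  have hle : (T f a).map (MulAut.conj ((c : G)⁻¹ * g)).toMonoidHom ≤ T f b := by
    rw [← map_conj_mul]
    rintro _ ⟨x, hx, rfl⟩
    obtain ⟨y, hy, hyx⟩ := hc (show (⟨x, hEC hx⟩ : C) ∈ E.subgroupOf C from hx)
    rw [← hQT]
    refine ⟨y, hy, ?_⟩
    show (y : G) = (c : G)⁻¹ * x * (c : G)⁻¹⁻¹
    rw [← show (c : G) * y * (c : G)⁻¹ = x from congrArg Subtype.val hyx]
    group
  have heq : (T f a).map (MulAut.conj ((c : G)⁻¹ * g)).toMonoidHom = T f b :=
    Subgroup.eq_of_le_of_card_ge hle (by
      rw [(isKleinFour_map (isKleinFour_T hf a) _).card_four, (isKleinFour_T hf b).card_four])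
  rcases Nat.eq_zero_or_pos N with hN | hN
  · subst hN
    have htop : ∀ d : ZMod (2 ^ (0 + 1)), four d = (⊤ : Subgroup (Dih 0)) := fun d =>
      Subgroup.eq_top_of_card_eq _ (by
        rw [(isKleinFour_four d).card_four, DihedralGroup.nat_card]; rfl)
    have hn : (c : G)⁻¹ * g ∈ Subgroup.normalizer (T f a : Set G) := by
      rw [mem_normalizer_iff_map, heq, T, T, htop, htop]
    have hmap : (c : G)⁻¹ * g * f (sr a) * ((c : G)⁻¹ * g)⁻¹ = f (sr b) := by
      calc _ = (c : G)⁻¹ * (g * f (sr a) * g⁻¹) * (c : G) := by group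
        _ = f (sr b) := by
          rw [hg, mul_assoc, ← Subgroup.mem_centralizer_singleton_iff.1 c.2, inv_mul_cancel_left]
    by_cases hz : (c : G)⁻¹ * g * f (dz 0) * ((c : G)⁻¹ * g)⁻¹ = f (dz 0)
    · have hC := fix_one_zero hf hS hn (i := 0) hz
      have e : f (sr a) * ((c : G)⁻¹ * g) = (c : G)⁻¹ * g * f (sr a) :=
        Subgroup.mem_centralizer_iff.1 hC _ (inv3_mem a 1)
      rw [← e, mul_inv_cancel_right] at hmap
      rw [DihedralGroup.sr.inj (hf hmap)]
    · exact absurd (conj_all_of_move hf hS hn hz (Or.inr rfl)) ha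
  · exact not_conj_T hf hS hN heq

/-- The parity of the exponent. -/
def psiP (N : ℕ) : Dih N →* Multiplicative (ZMod 2) where
  toFun
    | .r i => Multiplicative.ofAdd (par N i)
    | .sr i => Multiplicative.ofAdd (par N i)
  map_one' := by
    show Multiplicative.ofAdd (par N 0) = 1
    rw [map_zero, ofAdd_zero]
  map_mul' := by
    rintro (i | i) (j | j)
    · show Multiplicative.ofAdd (par N (i + j)) = _
      rw [map_add, ofAdd_add]
    · show Multiplicative.ofAdd (par N (j - i)) = _
      rw [map_sub, show ∀ x y : ZMod 2, x - y = y + x by decide, ofAdd_add]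
    · show Multiplicative.ofAdd (par N (i + j)) = _
      rw [map_add, ofAdd_add]
    · show Multiplicative.ofAdd (par N (j - i)) = _
      rw [map_sub, show ∀ x y : ZMod 2, x - y = y + x by decide, ofAdd_add]

/-- Rotation or reflection. -/
def psiE (N : ℕ) : Dih N →* Multiplicative (ZMod 2) where
  toFun
    | .r _ => Multiplicative.ofAdd 0
    | .sr _ => Multiplicative.ofAdd 1
  map_one' := rfl
  map_mul' := by
    rintro (i | i) (j | j)
    all_goals first
      | rfl
      | exact (show Multiplicative.ofAdd (0 : ZMod 2) =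
          Multiplicative.ofAdd 1 * Multiplicative.ofAdd 1 by decide)

/-- The map separating the reflections of parity `t`. -/
def psiT (N : ℕ) (t : ZMod 2) : Dih N →* Multiplicative (ZMod 2) :=
  if t = 1 then psiP N else psiP N * psiE N

theorem psiT_r (t : ZMod 2) (i : ZMod (2 ^ (N + 1))) :
    psiT N t (r i) = Multiplicative.ofAdd (par N i) := by
  unfold psiT
  split
  · rfl
  · exact mul_one _

theorem psiT_sr (t : ZMod 2) (i : ZMod (2 ^ (N + 1))) :
    psiT N t (sr i) = Multiplicative.ofAdd (par N i + t + 1) := by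
  rcases (show t = 0 ∨ t = 1 by revert t; decide) with rfl | rfl
  · show (psiP N * psiE N) (sr i) = _
    rw [add_zero, ofAdd_add]
    rfl
  · show psiP N (sr i) = _
    rw [add_assoc, show (1 : ZMod 2) + 1 = 0 by decide, add_zero]
    rfl

theorem orderOf_r_par {i : ZMod (2 ^ (N + 1))} :
    orderOf (r i : Dih N) = 2 ^ (N + 1) ↔ par N i = 1 := by
  have hpow : (r i : Dih N) ^ 2 ^ N = r (half N * i) := by rw [r_pow, half, mul_comm]
  constructor
  · intro h
    refine (par_zero_or_one i).resolve_left fun h0 => ?_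
    rw [half_mul_of_even h0, r_zero] at hpow
    have := Nat.le_of_dvd (by positivity) (orderOf_dvd_of_pow_eq_one hpow)
    rw [h, pow_succ] at this
    have : 0 < 2 ^ N := by positivity
    omega
  · intro h
    refine orderOf_eq_prime_pow ?_ ?_
    · rw [hpow, half_mul_of_odd h]; exact dz_ne_one
    · refine (pow_mul (r i : Dih N) (2 ^ N) 2).trans ?_
      rw [hpow, half_mul_of_odd h, sq]; exact dz_mul_dz

theorem psiT_invariant (hf : Function.Injective f) (hS : IsSylTwo f.range)
    {a : ZMod (2 ^ (N + 1))} (ha : ¬ IsConj (f (dz N)) (f (sr a))) {u v : Dih N}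
    (h : IsConj (f u) (f v)) : psiT N (par N a) u = psiT N (par N a) v := by
  have hordr : ∀ {x y : Dih N}, IsConj (f x) (f y) → orderOf x = orderOf y := fun {x y} e => by
    rw [← orderOf_injective f hf x, ← orderOf_injective f hf y, orderOf_eq_of_isConj e]
  have key : ∀ x y : Dih N, IsConj (f x) (f y) → psiT N (par N a) x = Multiplicative.ofAdd 1 →
      psiT N (par N a) y = Multiplicative.ofAdd 1 := by
    intro x y hxy hx
    rcases x with i | i
    · rw [psiT_r] at hx
      have hi := Multiplicative.ofAdd.injective hx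
      have ho := orderOf_r_par.2 hi
      rw [hordr hxy] at ho
      rcases y with j | j
      · rw [psiT_r, orderOf_r_par.1 ho]
      · rw [orderOf_sr] at ho
        obtain rfl : N = 0 := by
          have := Nat.pow_right_injective le_rfl ((pow_one 2).trans ho)
          omega
        have : i = half 0 := by clear hx hxy; revert hi; revert i; decide
        subst this
        exact absurd (all_of_one_zero hf hS hxy a) ha
    · rw [psiT_sr] at hx
      have hi : par N i = par N a := by
        have := Multiplicative.ofAdd.injective hx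
        generalize par N i = p at this
        generalize par N a = q at this
        revert this; revert p q; decide
      have hai : IsConj (f (sr a)) (f y) := (isConj_map f (isConj_sr hi.symm)).trans hxy
      have hy2 : orderOf y = 2 := by rw [← hordr hxy, orderOf_sr]
      rcases eq_of_orderOf_two hy2 with rfl | ⟨j, rfl⟩
      · exact absurd hai.symm ha
      · rw [psiT_sr, ← par_of_fused hf hS ha hai]
        congr 1
        rw [add_self_two, zero_add]
  have e1 := key u v h
  have e2 := key v u h.symm
  generalize psiT N (par N a) u = p at e1 e2 ⊢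
  generalize psiT N (par N a) v = q at e1 e2 ⊢
  revert e1 e2 p q
  decide

theorem psiT_surjective (t : ZMod 2) : Function.Surjective (psiT N t) := by
  intro b
  rcases (show ∀ z : Multiplicative (ZMod 2), z = 1 ∨ z = Multiplicative.ofAdd 1 by decide) b with h | h
  · exact ⟨1, by rw [map_one, h]⟩
  · exact ⟨r 1, by rw [psiT_r, map_one, h]⟩

/-- A reflection not fused with the central involution gives a subgroup of index two. -/
theorem exists_index_two (hf : Function.Injective f) (hS : IsSylTwo f.range)
    {a : ZMod (2 ^ (N + 1))} (ha : ¬ IsConj (f (dz N)) (f (sr a))) :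
    ∃ K : Subgroup G, K.Normal ∧ K.index = 2 := by
  obtain ⟨K, hK, hi, -, -⟩ := exists_normal_of_invariant hf hS QD.isPGroup_mult _
    (psiT_surjective (par N a)) fun u v => psiT_invariant hf hS ha
  exact ⟨K, hK, hi.trans QD.card_mult⟩

/-- Without fusion of the central involution there is a normal 2-complement. -/
theorem nilpotent_case (P : Sylow 2 G) (hf : Function.Injective f) (hS : IsSylTwo f.range)
    (h : ∀ a, ¬ IsConj (f (dz N)) (f (sr a))) : Cfsg.HasNormalPComplement 2 G := by
  let ψ := (psiT N 0).prod (psiT N 1)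
  have hsurj : Function.Surjective ψ := by
    have h2 : ∀ z : Multiplicative (ZMod 2), z = 1 ∨ z = Multiplicative.ofAdd 1 := by decide
    intro b
    rcases h2 b.1 with h1 | h1 <;> rcases h2 b.2 with h3 | h3
    · exact ⟨1, by rw [map_one]; exact Prod.ext h1.symm h3.symm⟩
    · refine ⟨sr 1, Prod.ext ?_ ?_⟩
      · show psiT N 0 (sr 1) = b.1
        rw [psiT_sr, map_one, h1]; decide
      · show psiT N 1 (sr 1) = b.2
        rw [psiT_sr, map_one, h3]; decide
    · refine ⟨sr 0, Prod.ext ?_ ?_⟩
      · show psiT N 0 (sr 0) = b.1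
        rw [psiT_sr, map_zero, h1]; decide
      · show psiT N 1 (sr 0) = b.2
        rw [psiT_sr, map_zero, h3]; decide
    · refine ⟨r 1, Prod.ext ?_ ?_⟩
      · show psiT N 0 (r 1) = b.1
        rw [psiT_r, map_one, h1]
      · show psiT N 1 (r 1) = b.2
        rw [psiT_r, map_one, h3]
  have hinv : ∀ u v, IsConj (f u) (f v) → ψ u = ψ v := fun u v e => by
    refine Prod.ext ?_ ?_
    · have := psiT_invariant hf hS (h 0) e
      rwa [map_zero] at this
    · have := psiT_invariant hf hS (h 1) e
      rwa [map_one] at this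
  obtain ⟨K, hK, hidx, hmem, -⟩ := exists_normal_of_invariant hf hS
    (IsPGroup.of_card (n := 2) (by rw [Nat.card_prod, QD.card_mult]; norm_num)) ψ hsurj hinv
  refine hasNormalPComplement_of_cyclic P (K := K) (a := 2) ?_ fun Q => ?_
  · rw [hidx, Nat.card_prod, QD.card_mult]; norm_num
  · obtain ⟨e⟩ := nonempty_sylow_equiv hf hS K ψ.ker
      (fun w => (hmem w).trans MonoidHom.mem_ker.symm) Q
    have hle : ψ.ker ≤ zpowers (r 1 : Dih N) := by
      rintro (i | i) hi
      · exact ⟨(i.val : ℤ), by
          show (r 1 : Dih N) ^ (i.val : ℤ) = r i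
          rw [zpow_natCast, r_one_pow, ZMod.natCast_zmod_val]⟩
      · exfalso
        have hi' : (psiT N 0 (sr i), psiT N 1 (sr i)) = 1 := hi
        rw [psiT_sr, psiT_sr, Prod.mk_eq_one] at hi'
        obtain ⟨e1, e2⟩ := hi'
        generalize par N i = p at e1 e2
        revert e1 e2; revert p; decide
    exact e.isCyclic.2 (Subgroup.isCyclic_of_le hle)

/-- All three kinds of involutions fused: no subgroup of index two. -/
theorem no_index_two (hS : IsSylTwo f.range) (h : ∀ a, IsConj (f (dz N)) (f (sr a))) (H : Subgroup G) :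
    H.index ≠ 2 := by
  intro hH
  have hiff : ∀ a, f (sr a) ∈ H ↔ f (dz N) ∈ H := fun a => by
    obtain ⟨g, hg⟩ := isConj_iff.1 (h a)
    rw [← hg, conj_mem_iff_of_index_two hH]
  have hz : f (dz N) ∈ H := by
    have h1 := hiff (0 + half N)
    rw [← dz_mul_sr, map_mul, H.mul_mem_iff_of_index_two hH, hiff 0] at h1
    tauto
  refine index_ne_two_of_le hS ?_ hH
  rintro _ ⟨w, rfl⟩
  rcases w with i | i
  · rw [show (r i : Dih N) = sr 0 * sr i by rw [sr_mul_sr, sub_zero], map_mul]
    exact mul_mem ((hiff 0).2 hz) ((hiff i).2 hz)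
  · exact (hiff i).2 hz

theorem one_class (hf : Function.Injective f) (hS : IsSylTwo f.range)
    (h : ∀ a, IsConj (f (dz N)) (f (sr a))) {s : G} (hs : orderOf s = 2) : IsConj (f (dz N)) s := by
  obtain ⟨w, hw⟩ := exists_isConj_model hS (k := 1) hs
  have hw2 : orderOf w = 2 := by rw [← orderOf_injective f hf, orderOf_eq_of_isConj hw, hs]
  rcases eq_of_orderOf_two hw2 with rfl | ⟨j, rfl⟩
  · exact hw
  · exact (h j).trans hw

/-- The index in a four group's normalizer detects fusion. -/
theorem relIndex_T (hf : Function.Injective f) (hS : IsSylTwo f.range) (a : ZMod (2 ^ (N + 1))) :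
    (Subgroup.centralizer (T f a : Set G)).relIndex (Subgroup.normalizer (T f a : Set G)) =
        (if N = 0 then 3 else 6) ↔ IsConj (f (dz N)) (f (sr a)) := by
  rcases Nat.eq_zero_or_pos N with hN | hN
  · subst hN
    rw [if_pos rfl]
    set C := Subgroup.centralizer (T f a : Set G)
    set Nr := Subgroup.normalizer (T f a : Set G)
    constructor
    · intro h
      by_contra hne
      have hle : Nr ≤ C := fun n hn => fix_one_zero hf hS hn (i := 0) (by
        by_contra hm
        exact hne (conj_all_of_move hf hS hn hm (Or.inl rfl)))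
      rw [Subgroup.relIndex_eq_one.2 hle] at h
      omega
    · intro h
      obtain ⟨n, hn, hne⟩ := exists_move hf hS h
      -- the orbit of the central involution is a full set of representatives
      have horb : ∀ i : Fin 3, ∃ m : Nr, (m : G) * inv3 f a 0 * (m : G)⁻¹ = inv3 f a i := by
        obtain ⟨l, hl⟩ := inv3_perm hf hn (a := a) 0
        obtain ⟨m, hm⟩ := inv3_perm hf hn (a := a) l
        have hl0 : l ≠ 0 := fun e => hne (by subst e; exact hl)
        have hfix : ∀ i, n * inv3 f a i * n⁻¹ = inv3 f a i → False := fun i hi => hne (by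
          show n * inv3 f a 0 * n⁻¹ = inv3 f a 0
          rw [← Subgroup.mem_centralizer_iff.1 (fix_one_zero hf hS hn hi) _ (inv3_mem a 0),
            mul_inv_cancel_right])
        have hml : m ≠ l := fun e => hfix l (by subst e; exact hm)
        obtain ⟨q, hq⟩ := inv3_perm hf hn (a := a) m
        have hinj : ∀ {p p' : Fin 3}, n * inv3 f a p * n⁻¹ = n * inv3 f a p' * n⁻¹ → p = p' :=
          fun h => inv3_injective hf a (mul_left_cancel (mul_right_cancel h))
        have hm0 : m ≠ 0 := fun e => by
          subst e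
          obtain ⟨r, hr0, hrl⟩ : ∃ r : Fin 3, r ≠ 0 ∧ r ≠ l := by
            clear hl hm hml hq
            revert l; decide
          obtain ⟨s, hs⟩ := inv3_perm hf hn (a := a) r
          have hs1 : s ≠ l := fun h => hr0 (hinj (by rw [hs, h, hl]))
          have hs2 : s ≠ 0 := fun h => hrl (hinj (by rw [hs, h, hm]))
          have hsr : s = r := by
            clear hl hm hs hq hinj hfix
            omega
          exact hfix r (hsr ▸ hs)
        intro i
        have hcases : i = 0 ∨ i = l ∨ i = m := by
          clear hl hm hq hinj hfix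
          omega
        rcases hcases with rfl | rfl | rfl
        · exact ⟨1, by simp⟩
        · exact ⟨⟨n, hn⟩, hl⟩
        · refine ⟨⟨n, hn⟩ * ⟨n, hn⟩, ?_⟩
          rw [← hm, ← hl]
          simp [mul_assoc]
      choose m hm using horb
      show (C.subgroupOf Nr).index = 3
      rw [Subgroup.index]
      refine (Nat.card_eq_of_bijective (fun i : Fin 3 => (QuotientGroup.mk (m i) : Nr ⧸ _)) ⟨?_, ?_⟩).symm.trans
        (Nat.card_fin 3)
      · intro i j hij
        rw [QuotientGroup.eq, Subgroup.mem_subgroupOf] at hij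
        have e := Subgroup.mem_centralizer_iff.1 hij _ (inv3_mem a 0)
        apply inv3_injective hf a
        rw [← hm i, ← hm j]
        push_cast at e
        calc (m i : G) * inv3 f a 0 * (m i : G)⁻¹
            = (m i : G) * (inv3 f a 0 * ((m i : G)⁻¹ * (m j : G))) * (m j : G)⁻¹ := by group
          _ = (m j : G) * inv3 f a 0 * (m j : G)⁻¹ := by rw [e]; group
      · intro x
        obtain ⟨y, rfl⟩ := QuotientGroup.mk_surjective x
        obtain ⟨i, hi⟩ := inv3_perm hf y.2 (a := a) 0
        refine ⟨i, QuotientGroup.eq.2 (Subgroup.mem_subgroupOf.2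
          (fix_one_zero hf hS (mul_mem (inv_mem (m i).2) y.2) (i := 0) ?_))⟩
        push_cast
        calc (m i : G)⁻¹ * (y : G) * inv3 f a 0 * ((m i : G)⁻¹ * (y : G))⁻¹
            = (m i : G)⁻¹ * ((y : G) * inv3 f a 0 * (y : G)⁻¹) * (m i : G) := by group
          _ = inv3 f a 0 := by rw [hi, ← hm i]; group
  · rw [if_neg (by omega), (T_tri hf hN a).2.1]
    exact ⟨fun ⟨n, hn, hne⟩ => conj_all_of_move hf hS hn hne (Or.inl rfl), exists_move hf hS⟩

/-- A dihedral Sylow 2-subgroup gives an embedding of the model. -/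
theorem exists_embedding (S : Sylow 2 G) {m : ℕ} (hm : 2 ≤ m)
    (e : (S : Subgroup G) ≃* DihedralGroup m) :
    ∃ (N : ℕ) (f : Dih N →* G), Function.Injective f ∧ f.range = (S : Subgroup G) := by
  haveI : Fact (Nat.Prime 2) := ⟨Nat.prime_two⟩
  obtain ⟨j, hj⟩ := S.isPGroup'.exists_card_eq
  rw [Nat.card_congr e.toEquiv, DihedralGroup.nat_card] at hj
  obtain ⟨i, -, hi⟩ := (Nat.dvd_prime_pow Nat.prime_two).1 (hj ▸ Dvd.intro_left 2 rfl : m ∣ 2 ^ j)
  cases i with
  | zero => omega
  | succ N =>
    subst hi
    refine ⟨N, (S : Subgroup G).subtype.comp e.symm.toMonoidHom,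
      (S : Subgroup G).subtype_injective.comp e.symm.injective, ?_⟩
    rw [MonoidHom.range_comp, MonoidHom.range_eq_top.2 e.symm.surjective, ← MonoidHom.range_eq_map,
      Subgroup.range_subtype]

end Dih

end Cfsg.Agent.H49
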