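import Mathlib
import Cfsg.Prelude.Def_LocalStructure
import Cfsg.Agent.H85.MinimalNonPClosed
import Cfsg.Agent.H6.Basic

/-!
# The least order of a group which is not `p`-closed
-/

set_option autoImplicit false
set_option linter.unusedSectionVars false

namespace Cfsg.Agent.H49

/-- The statement of the Brauer–Reynolds theorem for groups of order below `p ^ 3`. -/
def LargePrimeProp : Prop :=
  ∀ (G : Type) [Group G] [Finite G] [IsSimpleGroup G], ¬ IsCyclic G →
    ∀ p : ℕ, p.Prime → p ∣ Nat.card G → Nat.card G < p ^ 3 →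
    (∃ (F : Type) (_ : Field F) (_ : Fintype F), Fintype.card F = p ∧ 3 < p ∧
        Nonempty (G ≃* Matrix.ProjectiveSpecialLinearGroup (Fin 2) F)) ∨
      (∃ (m : ℕ) (F : Type) (_ : Field F) (_ : Fintype F), Fintype.card F = 2 ^ m ∧ p = 2 ^ m + 1 ∧
        3 < p ∧ Nonempty (G ≃* Matrix.ProjectiveSpecialLinearGroup (Fin 2) F))

variable {p : ℕ} [Fact p.Prime]

/-- A prime dividing no part of the order: the group is `p`-closed. -/
theorem isPClosed_of_not_dvd {H : Type*} [Group H] [Finite H] (h : ¬ p ∣ Nat.card H) :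
    Cfsg.IsPClosed p H := by
  intro P
  have : (P : Subgroup H) = ⊥ := by
    rw [← Subgroup.card_eq_one]
    obtain ⟨k, hk⟩ := IsPGroup.iff_card.1 P.isPGroup'
    rcases Nat.eq_zero_or_pos k with rfl | hk0
    · simpa using hk
    · exfalso
      apply h
      have h1 : p ∣ Nat.card (P : Subgroup H) := by
        rw [hk]; exact dvd_pow_self p hk0.ne'
      exact h1.trans (Subgroup.card_subgroup_dvd_card _)
  rw [this]
  infer_instance

/-- The lower bound. -/
theorem le_card_of_not_isPClosed (hBR : LargePrimeProp) (hp : p ≠ 2) (m : ℕ)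
    (hleast : ∀ k : ℕ, IsPrimePow k → k % p = 1 → m ≤ k) :
    ∀ (n : ℕ) (H : Type) [Group H] [Finite H], Nat.card H = n → ¬ Cfsg.IsPClosed p H →
      min (p * m) (p * (p ^ 2 - 1) / 2) ≤ Nat.card H := by
  intro n
  induction n using Nat.strong_induction_on with
  | _ n ih =>
    intro H _ _ hn hnc
    have hpp : p.Prime := Fact.out
    by_cases hsub : ∀ K : Subgroup H, K ≠ ⊤ → Cfsg.IsPClosed p K
    swap
    · push Not at hsub
      obtain ⟨K, hK, hKnc⟩ := hsub
      have hlt : Nat.card K < Nat.card H := by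
        rcases (Subgroup.card_le_card_group K).lt_or_eq with h | h
        · exact h
        · exact absurd ((Subgroup.card_eq_iff_eq_top K).1 h) hK
      exact (ih _ (hn ▸ hlt) K rfl hKnc).trans hlt.le
    by_cases hquo : ∀ (N : Subgroup H) [N.Normal], N ≠ ⊥ → Cfsg.IsPClosed p (H ⧸ N)
    swap
    · push Not at hquo
      obtain ⟨N, hN, hNb, hNnc⟩ := hquo
      have hlt : Nat.card (H ⧸ N) < Nat.card H := by
        have h1 := N.card_eq_card_quotient_mul_card_subgroup
        have h2 : 2 ≤ Nat.card N := by
          by_contra h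
          have : Nat.card N = 1 := by
            have := Nat.card_pos (α := N)
            omega
          exact hNb (Subgroup.card_eq_one.1 this)
        have h3 := Nat.card_pos (α := H ⧸ N)
        nlinarith
      exact (ih _ (hn ▸ hlt) (H ⧸ N) rfl hNnc).trans hlt.le
    by_cases hs : IsSimpleGroup H
    · have hncyc : ¬ IsCyclic H := by
        intro h
        exact hnc (Cfsg.Agent.H85.isPClosed_of_comm
          fun a b => (IsCyclic.isMulCommutative (α := H)).is_comm.comm a b)
      have hdvd : p ∣ Nat.card H := by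
        by_contra h
        exact hnc (isPClosed_of_not_dvd h)
      by_contra hcon
      push Not at hcon
      have hlt : Nat.card H < p * (p ^ 2 - 1) / 2 := lt_of_lt_of_le hcon (min_le_right _ _)
      have hlt3 : Nat.card H < p ^ 3 := by
        refine lt_of_lt_of_le hlt ?_
        calc p * (p ^ 2 - 1) / 2 ≤ p * (p ^ 2 - 1) := Nat.div_le_self _ _
          _ ≤ p * p ^ 2 := Nat.mul_le_mul_left _ (Nat.sub_le _ _)
          _ = p ^ 3 := by ring
      rcases hBR H hncyc p hpp hdvd hlt3 with ⟨F, iF, iF', hF, hp3, ⟨e⟩⟩ |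
        ⟨k, F, iF, iF', hF, hpk, hp3, ⟨e⟩⟩
      · have hc := Cfsg.Agent.H6.card_psl2 (F := F) hF
        rw [← Nat.card_congr e.toEquiv] at hc
        have hodd : p % 2 = 1 := hpp.eq_two_or_odd.resolve_left hp
        rw [Nat.gcd_eq_left (by omega)] at hc
        omega
      · have hc := Cfsg.Agent.H6.card_psl2_mul (F := F) hF
        rw [← Nat.card_congr e.toEquiv] at hc
        have h1 : Nat.gcd 2 (2 ^ k - 1) = 1 := by
          refine (Nat.coprime_two_left.2 ?_)
          rcases k with _ | k
          · omega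
          · refine Nat.Even.sub_odd (Nat.one_le_two_pow) ?_ odd_one
            exact ⟨2 ^ k, by ring⟩
        rw [h1, mul_one] at hc
        generalize ha : 2 ^ k = a at hF hc h1 hpk
        subst hpk
        have ha4 : 4 ≤ a := by
          rw [← ha]
          rcases Nat.lt_or_ge k 2 with hk | hk
          · exfalso
            have : 2 ^ k ≤ 2 ^ 1 := Nat.pow_le_pow_right (by norm_num) (by omega)
            omega
          · exact le_trans (by norm_num) (Nat.pow_le_pow_right (by norm_num : 1 ≤ 2) hk)
        have h2 : 2 * Nat.card H < (a + 1) * ((a + 1) ^ 2 - 1) := by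
          have h := Nat.div_mul_le_self ((a + 1) * ((a + 1) ^ 2 - 1)) 2
          omega
        rw [hc] at h2
        have h3 : (a + 1) ^ 2 - 1 = a * (a + 2) := by
          have : (a + 1) ^ 2 = a * (a + 2) + 1 := by ring
          omega
        have h4 : a ^ 2 - 1 = (a + 1) * (a - 1) := by
          obtain ⟨b, rfl⟩ : ∃ b, a = b + 1 := ⟨a - 1, by omega⟩
          have : (b + 1) ^ 2 = (b + 1 + 1) * b + 1 := by ring
          simp only [Nat.add_sub_cancel]
          omega
        rw [h3, h4] at h2
        have h5 : 2 * (a - 1) * (a * (a + 1)) < (a + 2) * (a * (a + 1)) := by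
          calc 2 * (a - 1) * (a * (a + 1)) = 2 * (a * ((a + 1) * (a - 1))) := by ring
            _ < (a + 1) * (a * (a + 2)) := h2
            _ = (a + 2) * (a * (a + 1)) := by ring
        have h6 := Nat.lt_of_mul_lt_mul_right h5
        omega
    · obtain ⟨q, hq, hqp, hcard, -⟩ := Cfsg.Agent.H85.nonsimple_structure hnc hsub hquo hs
      have he : 0 < orderOf (q : ZMod p) := by
        apply Nat.pos_of_ne_zero
        intro h0
        rw [h0, pow_zero, mul_one] at hcard
        exact hnc (Cfsg.Agent.H85.isPClosed_of_card_dvd (hcard ▸ dvd_rfl))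
      have hmod : q ^ orderOf (q : ZMod p) % p = 1 := by
        have h : ((q ^ orderOf (q : ZMod p) : ℕ) : ZMod p) = ((1 : ℕ) : ZMod p) := by
          rw [Nat.cast_pow, pow_orderOf_eq_one, Nat.cast_one]
        rw [ZMod.natCast_eq_natCast_iff'] at h
        rwa [Nat.one_mod_eq_one.2 hpp.ne_one] at h
      have hm := hleast _ (hq.isPrimePow.pow he.ne') hmod
      rw [hcard]
      exact (min_le_left _ _).trans (Nat.mul_le_mul_left p hm)

/-- The left part of a conjugate of `inr g` by `inl n`. -/
theorem conj_inr_left {N A : Type*} [Group N] [Group A] (φ : A →* MulAut N) (n : N) (g : A) :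
    ((SemidirectProduct.inl n : SemidirectProduct N A φ) * SemidirectProduct.inr g *
      (SemidirectProduct.inl n)⁻¹).left = n * φ g n⁻¹ := by
  simp [SemidirectProduct.mul_left, SemidirectProduct.inv_left]

/-- A group of order `p * k` which is not `p`-closed, for a prime power `k ≡ 1 (mod p)`. -/
theorem exists_not_isPClosed_affine (k : ℕ) (hk : IsPrimePow k) (hk1 : k % p = 1) :
    ∃ (H : Type) (_ : Group H) (_ : Finite H), Nat.card H = p * k ∧ ¬ Cfsg.IsPClosed p H := by
  classical
  obtain ⟨q, a, hq, ha, rfl⟩ := hk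
  rw [← Nat.prime_iff] at hq
  haveI := Fact.mk hq
  have hpp : p.Prime := Fact.out
  haveI := Fintype.ofFinite (GaloisField q a)
  set F := GaloisField q a with hFdef
  have hcF : Fintype.card F = q ^ a := by
    rw [← Nat.card_eq_fintype_card]; exact GaloisField.card q a ha.ne'
  have hdvd : p ∣ Fintype.card Fˣ := by
    rw [Fintype.card_units, hcF]
    exact ⟨q ^ a / p, by have := Nat.div_add_mod (q ^ a) p; omega⟩
  obtain ⟨ζ, hζ⟩ := exists_prime_orderOf_dvd_card p hdvd
  let φ : Subgroup.zpowers ζ →* MulAut (Multiplicative F) :=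
    { toFun := fun u =>
        AddEquiv.toMultiplicative
          { toFun := fun x => ((u : Fˣ) : F) * x
            invFun := fun x => (((u : Fˣ)⁻¹ : Fˣ) : F) * x
            left_inv := fun x => by simp [← mul_assoc]
            right_inv := fun x => by simp [← mul_assoc]
            map_add' := fun x y => mul_add _ _ _ }
      map_one' := by
        ext x
        simp
      map_mul' := fun u v => by
        ext x
        simp [mul_assoc] }
  let H := SemidirectProduct (Multiplicative F) (Subgroup.zpowers ζ) φ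
  haveI : Finite H := Finite.of_equiv _ SemidirectProduct.equivProd.symm
  have hcard : Nat.card H = p * q ^ a := by
    rw [Nat.card_congr SemidirectProduct.equivProd, Nat.card_prod, Nat.card_zpowers, hζ, mul_comm]
    congr 1
    rw [Nat.card_eq_fintype_card (α := Multiplicative F), Fintype.card_multiplicative, hcF]
  refine ⟨H, inferInstance, inferInstance, hcard, fun hcl => ?_⟩
  let R : Subgroup H := (SemidirectProduct.inr : Subgroup.zpowers ζ →* H).range
  have hR : Nat.card R = p := by
    rw [Nat.card_congr (MonoidHom.ofInjective SemidirectProduct.inr_injective).symm.toEquiv,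
      Nat.card_zpowers, hζ]
  have hRp : IsPGroup p R := IsPGroup.of_card (n := 1) (by rw [hR, pow_one])
  obtain ⟨P, hP⟩ := hRp.exists_le_sylow
  have hndvd : ¬ p ∣ q ^ a := fun h => by
    have := Nat.mod_eq_zero_of_dvd h; omega
  have hPR : (P : Subgroup H) = R := by
    symm
    refine Subgroup.eq_of_le_of_card_ge hP ?_
    rw [hR, P.card_eq_multiplicity, hcard, Nat.factorization_mul hpp.ne_zero
      (by intro h; rw [h] at hndvd; exact hndvd (dvd_zero p))]
    rw [Finsupp.add_apply, Nat.factorization_eq_zero_of_not_dvd hndvd, hpp.factorization_self,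
      add_zero, pow_one]
  have hRn : R.Normal := hPR ▸ hcl P
  let u : Subgroup.zpowers ζ := ⟨ζ, Subgroup.mem_zpowers ζ⟩
  let x : SemidirectProduct (Multiplicative F) (Subgroup.zpowers ζ) φ :=
    SemidirectProduct.inl (Multiplicative.ofAdd (1 : F))
  obtain ⟨v, hv⟩ : ∃ v, SemidirectProduct.inr v = x * SemidirectProduct.inr u * x⁻¹ :=
    hRn.conj_mem (SemidirectProduct.inr u) ⟨u, rfl⟩ x
  have h1 : (1 : Multiplicative F) = Multiplicative.ofAdd (1 : F) * φ u (Multiplicative.ofAdd (1 : F))⁻¹ :=
    ((congrArg SemidirectProduct.left hv).trans (conj_inr_left φ _ u))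
  have h2 : ((ζ : Fˣ) : F) = 1 := by
    have h1' : (0 : F) = 1 + ((ζ : Fˣ) : F) * (-1) := congrArg Multiplicative.toAdd h1
    linear_combination h1'
  have : ζ = 1 := Units.ext h2
  rw [this, orderOf_one] at hζ
  exact hpp.ne_one hζ.symm

/-- `PSL₂(p)` is not `p`-closed for `p ≥ 5`. -/
theorem exists_not_isPClosed_psl (hp5 : 5 ≤ p) :
    ∃ (H : Type) (_ : Group H) (_ : Finite H),
      Nat.card H = p * (p ^ 2 - 1) / 2 ∧ ¬ Cfsg.IsPClosed p H := by
  have hpp : p.Prime := Fact.out
  have hodd : p % 2 = 1 := hpp.eq_two_or_odd.resolve_left (by omega)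
  set H := Matrix.ProjectiveSpecialLinearGroup (Fin 2) (ZMod p) with hH
  have hcard : Nat.card H = p * (p ^ 2 - 1) / 2 := by
    have hc := Cfsg.Agent.H6.card_psl2 (F := ZMod p) (ZMod.card p)
    rwa [Nat.gcd_eq_left (by omega)] at hc
  refine ⟨H, inferInstance, inferInstance, hcard, fun hcl => ?_⟩
  have hs : IsSimpleGroup H :=
    Matrix.ProjectiveSpecialLinearGroup.rank_two_simple
      (by rw [Nat.card_eq_fintype_card, ZMod.card]; omega)
  have h8 : 8 ∣ p ^ 2 - 1 := by
    obtain ⟨b, rfl⟩ : ∃ b, p = 2 * b + 1 := ⟨p / 2, by omega⟩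
    obtain ⟨c, hc⟩ := Nat.even_mul_succ_self b
    exact ⟨c, by
      have : (2 * b + 1) ^ 2 = 4 * (b * (b + 1)) + 1 := by ring
      omega⟩
  obtain ⟨d, hd⟩ := h8
  have hcard' : Nat.card H = p * (4 * d) := by
    rw [hcard, hd, show p * (8 * d) = p * (4 * d) * 2 by ring, Nat.mul_div_cancel _ two_pos]
  obtain ⟨P⟩ : Nonempty (Sylow p H) := inferInstance
  rcases hs.eq_bot_or_eq_top_of_normal _ (hcl P) with h | h
  · have := P.card_eq_multiplicity
    rw [h, Subgroup.card_bot] at this
    have hpos : 0 < (Nat.card H).factorization p :=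
      hpp.factorization_pos_of_dvd Nat.card_pos.ne' (by rw [hcard']; exact dvd_mul_right p _)
    have := Nat.one_lt_pow hpos.ne' hpp.one_lt
    omega
  · have hG : IsPGroup p H := (P.isPGroup').of_equiv
      ((MulEquiv.subgroupCongr h).trans Subgroup.topEquiv)
    obtain ⟨n, hn⟩ := IsPGroup.iff_card.1 hG
    have h2 : 2 ∣ Nat.card H := by
      rw [hcard']; exact Dvd.dvd.mul_left ⟨2 * d, by ring⟩ p
    rw [hn] at h2
    have := (Nat.prime_dvd_prime_iff_eq Nat.prime_two hpp).1 (Nat.prime_two.dvd_of_dvd_pow h2)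
    omega

theorem least_order_not_isPClosed (hBR : LargePrimeProp) (hp : p ≠ 2) (m : ℕ) (hm : IsPrimePow m)
    (hm1 : m % p = 1) (hleast : ∀ k : ℕ, IsPrimePow k → k % p = 1 → m ≤ k) :
    (∀ (H : Type) [Group H] [Finite H], ¬ Cfsg.IsPClosed p H →
      min (p * m) (p * (p ^ 2 - 1) / 2) ≤ Nat.card H) ∧
      ∃ (H : Type) (_ : Group H) (_ : Finite H),
        Nat.card H = min (p * m) (p * (p ^ 2 - 1) / 2) ∧ ¬ Cfsg.IsPClosed p H := by
  refine ⟨fun H _ _ h => le_card_of_not_isPClosed hBR hp m hleast _ H rfl h, ?_⟩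
  rcases le_or_gt (p * m) (p * (p ^ 2 - 1) / 2) with h | h
  · rw [min_eq_left h]
    exact exists_not_isPClosed_affine m hm hm1
  · rw [min_eq_right h.le]
    refine exists_not_isPClosed_psl ?_
    have hpp : p.Prime := Fact.out
    by_contra h5
    have hp3 : p = 3 := by
      have := hpp.two_le
      interval_cases p <;> first | rfl | omega | norm_num at hpp
    subst hp3
    have h4 := hleast 4 ((Nat.prime_two).isPrimePow.pow (k := 2) (by norm_num)) (by norm_num)
    norm_num at h
    omega

end Cfsg.Agent.H49
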