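import Cfsg.Agent.H24.MetacyclicTwo

/-!
# Metacyclic 2-groups with an automorphism of odd order

The non-abelian argument repeats the one of `H24.auto_cases`, keeping track of generation.
-/

set_option autoImplicit false
set_option linter.unusedSectionVars false

namespace Cfsg.Agent.H49

open Subgroup
open scoped commutatorElement
open Cfsg.Agent.H24

variable {Q : Type*} [Group Q] [Finite Q]

/-- A non-abelian metacyclic 2-group with an automorphism of order three moving the Frattini
quotient is generated by a quaternion pair. -/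
theorem quaternion_gen (hP : IsPGroup 2 Q) (hm : Cfsg.IsMetacyclic Q) (α : MulAut Q)
    (S : TriAuto α) (hab : ¬ IsMulCommutative Q) :
    ∃ k k' : Q, orderOf k = 4 ∧ k' * k * k'⁻¹ = k⁻¹ ∧ k' * k' = k * k ∧
      closure ({k, k'} : Set Q) = ⊤ := by
  have : Fact (Nat.Prime 2) := ⟨Nat.prime_two⟩
  have hcomm_gen : ∀ a b : Q, closure ({a, b} : Set Q) = ⊤ → a * b = b * a → IsMulCommutative Q := by
    intro a b hab h
    have h1 : ∀ x ∈ ({a, b} : Set Q), ∀ y ∈ ({a, b} : Set Q), x * y = y * x := by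
      rintro x (rfl | rfl) y (rfl | rfl) <;> first | rfl | exact h | exact h.symm
    have h2 := isMulCommutative_closure h1
    exact ⟨⟨fun x y => congrArg Subtype.val
      (h2.is_comm.comm ⟨x, hab ▸ mem_top x⟩ ⟨y, hab ▸ mem_top y⟩)⟩⟩
  obtain ⟨K, hKn, hKc, hQc⟩ := hm
  obtain ⟨k, rfl⟩ := Subgroup.isCyclic_iff_exists_zpowers_eq_top K |>.mp hKc
  set D := commutator Q with hD
  have hDK : D ≤ zpowers k := by
    rw [hD, _root_.commutator_def, commutator_le]
    intro a _ b _
    have := IsCyclic.isMulCommutative (α := Q ⧸ zpowers k)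
    rw [← QuotientGroup.eq_one_iff, ← QuotientGroup.mk'_apply, map_commutatorElement,
      commutatorElement_eq_one_iff_mul_comm]
    exact this.is_comm.comm _ _
  have hkΦ : k ∉ frattini Q := by
    intro h
    have hle : zpowers k ≤ frattini Q := zpowers_le.mpr h
    have := isCyclic_of_quotient (zpowers k) hle
    exact hab IsCyclic.isMulCommutative
  set k' := α k with hk'
  have hgen := S.gen k hkΦ
  have hk'Φ : k' ∉ frattini Q := fun h => hkΦ (by
    have := (Subgroup.characteristic_iff_le_comap.mp (frattini_characteristic (G := Q)) α⁻¹) h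
    simpa [hk'] using this)
  -- elements of `D` are central and fixed
  have hαD : ∀ d ∈ D, α d ∈ D := fun d hd => by
    exact (Subgroup.characteristic_iff_le_comap.mp
      (inferInstanceAs (commutator Q).Characteristic) α) hd
  obtain ⟨M, hM⟩ : ∃ M, M = orderOf (k : Q ⧸ D) := ⟨_, rfl⟩
  set w := k ^ M with hw
  have hwD : w ∈ D := by
    rw [← QuotientGroup.eq_one_iff, hw, QuotientGroup.mk_pow, hM, pow_orderOf_eq_one]
  have hDw : ∀ d ∈ D, d ∈ zpowers w := by
    intro d hd
    obtain ⟨i, rfl⟩ := mem_zpowers_iff.mp (hDK hd)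
    have h1 : ((k : Q ⧸ D)) ^ i = 1 := by
      rw [← QuotientGroup.mk_zpow, QuotientGroup.eq_one_iff]; exact hd
    rw [← orderOf_dvd_iff_zpow_eq_one, ← hM] at h1
    obtain ⟨j, rfl⟩ := h1
    exact ⟨j, by rw [hw, zpow_mul, zpow_natCast]⟩
  have hαw : α w = w := fixed_of_cyclic (k := k) hP α S.cube (hDw _ (hαD w hwD))
  have hfixD : ∀ d ∈ D, α d = d := fun d hd => by
    obtain ⟨i, rfl⟩ := mem_zpowers_iff.mp (hDw d hd)
    rw [map_zpow, hαw]
  have hwc : w ∈ center Q := by
    rw [mem_center_iff]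
    intro x
    have hx : x ∈ closure ({k, k'} : Set Q) := by rw [hgen]; exact mem_top x
    have hk1 : k * w = w * k := by rw [hw]; exact (Commute.self_pow k M).eq
    induction hx using closure_induction with
    | mem y hy =>
      rcases hy with rfl | rfl
      · exact hk1
      · have := congrArg α hk1
        rwa [map_mul, map_mul, hαw] at this
    | one => simp
    | mul a b _ _ ha hb => exact (Commute.mul_left (show Commute a w from ha) hb).eq
    | inv a _ ha => exact (Commute.inv_left (show Commute a w from ha)).eq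
  have hDc : D ≤ center Q := fun d hd => by
    obtain ⟨i, rfl⟩ := mem_zpowers_iff.mp (hDw d hd)
    exact zpow_mem hwc i
  -- fixed points of the induced automorphism of the abelianization are trivial
  have hab2 : ∀ x y : Q ⧸ D, x * y = y * x := by
    intro x y
    obtain ⟨a, rfl⟩ := QuotientGroup.mk'_surjective D x
    obtain ⟨b, rfl⟩ := QuotientGroup.mk'_surjective D y
    rw [← commutatorElement_eq_one_iff_mul_comm, ← map_commutatorElement, QuotientGroup.mk'_apply,
      QuotientGroup.eq_one_iff]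
    exact commutator_mem_commutator (mem_top a) (mem_top b)
  letI : CommGroup (Q ⧸ D) := { (inferInstance : Group (Q ⧸ D)) with mul_comm := hab2 }
  let β : Q ⧸ D →* Q ⧸ D := QuotientGroup.map D D α.toMonoidHom hαD
  have hβmk : ∀ g : Q, β g = (α g : Q ⧸ D) := fun g => rfl
  have hβ3 : ∀ v, β (β (β v)) = v := by
    intro v
    obtain ⟨g, rfl⟩ := QuotientGroup.mk_surjective v
    rw [hβmk, hβmk, hβmk]
    have h' := congrArg (fun γ : MulAut Q => γ g) S.cube
    simp only [pow_succ, pow_zero, one_mul, MulAut.mul_apply, MulAut.one_apply] at h'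
    rw [h']
  let B : Subgroup (Q ⧸ D) :=
    { carrier := {v | β v = v}
      one_mem' := map_one β
      mul_mem' := fun {a b} ha hb => show β (a * b) = a * b by
        rw [map_mul, show β a = a from ha, show β b = b from hb]
      inv_mem' := fun {a} ha => show β a⁻¹ = a⁻¹ by rw [map_inv, show β a = a from ha] }
  have hBsq : ∀ v ∈ B, ∃ u ∈ B, u * u = v := by
    intro v hv
    obtain ⟨g, rfl⟩ := QuotientGroup.mk_surjective v
    have hgΦ : g ∈ frattini Q := by
      by_contra h
      refine S.moves g h (commutator_le_frattini hP ?_)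
      exact QuotientGroup.eq.mp (show (g : Q ⧸ D) = (α g : Q ⧸ D) from hv.symm)
    have hle : frattini Q ≤ ((powMonoidHom 2 : Q ⧸ D →* Q ⧸ D).range).comap (QuotientGroup.mk' D) := by
      refine frattini_le_of (p := 2) _ (fun d hd => ?_) fun x => ⟨x, rfl⟩
      exact ⟨1, by rw [map_one]; exact ((QuotientGroup.eq_one_iff d).mpr hd).symm⟩
    obtain ⟨u, hu⟩ := hle hgΦ
    simp only [powMonoidHom_apply, QuotientGroup.mk'_apply] at hu
    -- cubing is bijective
    have hBp : IsPGroup 2 B := (hP.to_quotient D).to_subgroup B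
    have hN : β (u * β u * β (β u)) = u * β u * β (β u) := by
      rw [map_mul, map_mul, hβ3, mul_comm _ u, ← mul_assoc]
    obtain ⟨⟨r, hr⟩, hr3⟩ := (hBp.powEquiv (n := 3) (by norm_num)).surjective ⟨u * β u * β (β u), hN⟩
    have hr3' : r ^ 3 = u * β u * β (β u) := by simpa using congrArg Subtype.val hr3
    refine ⟨r, hr, ?_⟩
    have hv' : β ((g : Q ⧸ D)) = (g : Q ⧸ D) := hv
    have : (⟨r * r, mul_mem hr hr⟩ : B) ^ 3 = (⟨(g : Q ⧸ D), hv⟩ : B) ^ 3 := by
      refine Subtype.ext ?_
      show (r * r) ^ 3 = (g : Q ⧸ D) ^ 3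
      rw [mul_pow, hr3', ← sq, mul_pow, mul_pow, ← map_pow β, ← map_pow β, hu, ← map_pow β, hu, hv',
        hv', pow_succ, pow_two]
    exact congrArg Subtype.val ((hBp.powEquiv (n := 3) (by norm_num)).injective
      (a₁ := ⟨r * r, mul_mem hr hr⟩) (a₂ := ⟨(g : Q ⧸ D), hv⟩) (by simpa using this))
  have hBbot : ∀ v, β v = v → v = 1 := by
    have hsurj : Function.Surjective fun b : B => b * b := fun b => by
      obtain ⟨u, hu, hu2⟩ := hBsq b b.2
      exact ⟨⟨u, hu⟩, Subtype.ext hu2⟩
    have hinj := Finite.injective_iff_surjective.mpr hsurj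
    intro v hv
    obtain ⟨i, hi⟩ := (hP.to_quotient D) v
    have key : ∀ i : ℕ, ∀ v ∈ B, v ^ 2 ^ i = 1 → v = 1 := by
      intro i
      induction i with
      | zero => intro v _ h; simpa using h
      | succ i ih =>
        intro v hv h
        rw [pow_succ', pow_mul] at h
        have h1 : v * v = 1 := by
          rw [← sq]; exact ih (v ^ 2) (pow_mem hv 2) h
        exact congrArg Subtype.val (@hinj ⟨v, hv⟩ 1 (Subtype.ext (by simpa using h1)))
    exact key i v hv hi
  -- the three generators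
  have hsum : (k : Q ⧸ D) * β k * β (β k) = 1 := hBbot _ (by
    rw [map_mul, map_mul, hβ3, mul_comm _ (k : Q ⧸ D), ← mul_assoc])
  obtain ⟨u, hu, hk''⟩ : ∃ u ∈ D, α k' = (k * k')⁻¹ * u := by
    refine ⟨k * k' * α k', ?_, by group⟩
    rw [← QuotientGroup.eq_one_iff]
    exact hsum
  set z := ⁅k', k⁆ with hz
  have hzD : z ∈ D := commutator_mem_commutator (mem_top _) (mem_top _)
  obtain ⟨i, hi⟩ := mem_zpowers_iff.mp (hDw z hzD)
  have hzM : z ^ M = 1 := by
    rw [hz, ← comm_pow_right (hDc hzD) M, ← hw, commutatorElement_eq_one_iff_mul_comm]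
    exact mem_center_iff.mp hwc k'
  have hDz : D ≤ zpowers z := by
    have hzn : (zpowers z).Normal := normal_of_le_center (zpowers_le.mpr (hDc hzD))
    have hq : IsMulCommutative (Q ⧸ zpowers z) := by
      have h1 : ∀ x ∈ ({(k : Q ⧸ zpowers z), (k' : Q ⧸ zpowers z)} : Set _),
          ∀ y ∈ ({(k : Q ⧸ zpowers z), (k' : Q ⧸ zpowers z)} : Set _), x * y = y * x := by
        have h : (k' : Q ⧸ zpowers z) * k = (k : Q ⧸ zpowers z) * k' := by
          rw [← commutatorElement_eq_one_iff_mul_comm, ← QuotientGroup.mk'_apply,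
            ← QuotientGroup.mk'_apply, ← map_commutatorElement, QuotientGroup.mk'_apply,
            QuotientGroup.eq_one_iff]
          exact mem_zpowers z
        rintro x (rfl | rfl) y (rfl | rfl) <;> first | rfl | exact h | exact h.symm
      have h2 := isMulCommutative_closure h1
      have htop : closure ({(k : Q ⧸ zpowers z), (k' : Q ⧸ zpowers z)} : Set _) = ⊤ := by
        have := congrArg (Subgroup.map (QuotientGroup.mk' (zpowers z))) hgen
        rwa [MonoidHom.map_closure, Set.image_pair, map_top_of_surjective _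
          (QuotientGroup.mk'_surjective _)] at this
      exact ⟨⟨fun x y => congrArg Subtype.val
        (h2.is_comm.comm ⟨x, htop ▸ mem_top x⟩ ⟨y, htop ▸ mem_top y⟩)⟩⟩
    rw [hD, _root_.commutator_def, commutator_le]
    intro a _ b _
    rw [← QuotientGroup.eq_one_iff, ← QuotientGroup.mk'_apply, map_commutatorElement,
      commutatorElement_eq_one_iff_mul_comm]
    exact hq.is_comm.comm _ _
  have hDM : ∀ d ∈ D, d ^ M = 1 := fun d hd => by
    obtain ⟨j, rfl⟩ := mem_zpowers_iff.mp (hDz hd)
    rw [← zpow_natCast, ← zpow_mul, mul_comm, zpow_mul, zpow_natCast, hzM, one_zpow]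
  have hw1 : w ≠ 1 := by
    intro h
    apply hab
    refine hcomm_gen k k' hgen (commutatorElement_eq_one_iff_mul_comm.mp ?_).symm
    rw [← hz, ← hi, h, one_zpow]
  obtain ⟨f, hf⟩ := IsPGroup.iff_orderOf.mp (hP.to_quotient D) (k : Q ⧸ D)
  rw [← hM] at hf
  have hf0 : f ≠ 0 := by
    rintro rfl
    rw [pow_zero] at hf
    refine hkΦ (commutator_le_frattini hP ?_)
    rw [hw, hf, pow_one] at hwD
    exact hwD
  have hk'M : k' ^ M = w := by rw [hk', ← map_pow, ← hw, hαw]
  have hk''M : (α k') ^ M = w := by rw [← map_pow, hk'M, hαw]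
  have hkk : (k * k') ^ M = w * w * z ^ M.choose 2 := by
    rw [mul_pow_of_class_two (hDc hzD), ← hw, hk'M]
  rw [hk'', (show Commute (k * k')⁻¹ u from center_comm (hDc hu) _).mul_pow, hDM u hu, mul_one,
    inv_pow, hkk] at hk''M
  -- the order of `k` modulo `D` is two
  have hf1 : f = 1 := by
    by_contra hf1
    apply hw1
    obtain ⟨c, hc⟩ : 2 ∣ M.choose 2 := by
      rw [hf, Nat.choose_two_right]
      obtain ⟨e, rfl⟩ : ∃ e, f = e + 2 := ⟨f - 2, by omega⟩
      refine ⟨2 ^ e * (2 ^ (e + 2) - 1), ?_⟩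
      rw [show 2 ^ (e + 2) * (2 ^ (e + 2) - 1) = 2 * (2 * (2 ^ e * (2 ^ (e + 2) - 1))) by
        rw [pow_add]; ring, Nat.mul_div_cancel_left _ two_pos]
    have h1 : w ^ (3 + i * (2 * (c : ℤ))) = 1 := by
      rw [zpow_add, zpow_mul, hi]
      have h3 : z ^ M.choose 2 = z ^ (2 * (c : ℤ)) := by
        rw [hc, ← zpow_natCast]; push_cast; rfl
      rw [← h3, show (3 : ℤ) = 1 + 1 + 1 by norm_num, zpow_add, zpow_add, zpow_one]
      have h4 := inv_eq_iff_mul_eq_one.mp hk''M
      have hcm : z ^ M.choose 2 * w = w * z ^ M.choose 2 := mem_center_iff.mp hwc _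
      rw [mul_assoc (w * w)] at h4 ⊢
      rw [← hcm]
      exact h4
    obtain ⟨e, he⟩ := hP w
    have hcop : IsCoprime ((2 : ℤ) ^ e) (3 + i * (2 * (c : ℤ))) :=
      ((Int.prime_two.coprime_iff_not_dvd).mpr (by
        rintro ⟨v, hv⟩
        have : i * (2 * (c : ℤ)) = 2 * (i * c) := by ring
        omega)).pow_left
    obtain ⟨a, b, hab'⟩ := hcop
    rw [← zpow_one w, ← hab', zpow_add, mul_comm a, zpow_mul, mul_comm b, zpow_mul, h1, one_zpow,
      mul_one, show ((2 : ℤ) ^ e) = ((2 ^ e : ℕ) : ℤ) by norm_num, zpow_natCast, he, one_zpow]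
  subst hf1
  rw [pow_one] at hf
  subst hf
  have hw2 : w * w = 1 := by rw [← sq]; exact hDM w hwD
  rw [Nat.choose_self, pow_one, hw2, one_mul] at hk''M
  have hzw : z = w := by
    rw [← inv_inv z, hk''M]
    exact inv_eq_of_mul_eq_one_right hw2
  refine ⟨k, k', ?_, ?_, ?_, hgen⟩
  · refine orderOf_eq_prime_pow (p := 2) (n := 1) ?_ ?_
    · rw [pow_one]; exact hw1
    · rw [show 2 ^ (1 + 1) = 2 * 2 by norm_num, pow_mul, ← hw, sq, hw2]
  · calc k' * k * k'⁻¹ = z * k := by rw [hz]; simp [commutatorElement_def, mul_assoc]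
      _ = k ^ 2 * k := by rw [hzw, hw]
      _ = k⁻¹ := by
          apply eq_inv_of_mul_eq_one_left
          rw [mul_assoc, ← sq, ← hw]
          exact hw2
  · rw [← sq, ← sq, hk'M]

end Cfsg.Agent.H49
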